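import Groth.Agent.Lib.TensorMod.Invertible

/-!
# Isomorphisms `M ⊗ N ≅ H` from bilinear pairings of sections
-/

noncomputable section

universe u

open CategoryTheory CategoryTheory.Limits AlgebraicGeometry Opposite TopologicalSpace MonoidalCategory

namespace Groth.Agent.Lib.ProjTilde.Pairing

open Groth.Agent.Lib.TensorMod Groth.Agent.Lib.TensorMod.Basic Groth.Agent.Lib.TensorMod.Dual Groth.Agent.Lib.TensorMod.Gen Groth.Agent.Lib.TensorMod.Whisker

variable {X : Scheme.{u}} {M N H : X.Modules}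

/-- A natural bilinear pairing of sections. -/
structure IsPairing (μ : ∀ W : X.Opens, Γ(M, W) → Γ(N, W) → Γ(H, W)) : Prop where
  add_left : ∀ W m m' n, μ W (m + m') n = μ W m n + μ W m' n
  smul_left : ∀ W (r : Γ(X, W)) m n, μ W (r • m) n = r • μ W m n
  add_right : ∀ W m n n', μ W m (n + n') = μ W m n + μ W m n'
  smul_right : ∀ W (r : Γ(X, W)) m n, μ W m (r • n) = r • μ W m n
  nat : ∀ W W' (h : W' ≤ W) m n, rs H h (μ W m n) = μ W' (rs M h m) (rs N h n)

variable {μ : ∀ W : X.Opens, Γ(M, W) → Γ(N, W) → Γ(H, W)} (hμ : IsPairing μ)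

/-- The map of presheaves attached to a pairing. -/
def pre : CohB1.tensorPre M N ⟶ (fgt X).obj H where
  app W := ModuleCat.MonoidalCategory.tensorLift (R := X.sheaf.obj.obj W)
    (M₁ := ((fgt X).obj M).obj W) (M₂ := ((fgt X).obj N).obj W) (M₃ := ((fgt X).obj H).obj W)
    (fun m n => μ W.unop m n)
    (fun m m' n => hμ.add_left W.unop m m' n)
    (fun r m n => hμ.smul_left W.unop r m n)
    (fun m n n' => hμ.add_right W.unop m n n')
    (fun r m n => hμ.smul_right W.unop r m n)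
  naturality {W W'} j := ModuleCat.MonoidalCategory.tensor_ext fun m n =>
    (hμ.nat W.unop W'.unop j.unop.le m n).symm

/-- A pure tensor. -/
def tm {U : X.Opens} (m : Γ(M, U)) (n : Γ(N, U)) : (CohB1.tensorPre M N).obj (op U) :=
  (show ((fgt X).obj M).obj (op U) from m) ⊗ₜ[X.sheaf.obj.obj (op U)]
    (show ((fgt X).obj N).obj (op U) from n)

theorem pre_tm {U : X.Opens} (m : Γ(M, U)) (n : Γ(N, U)) :
    ((pre hμ).app (op U)).hom (tm m n) = μ U m n := rfl

theorem tm_smul {U : X.Opens} (a : Γ(X, U)) (m : Γ(M, U)) (n : Γ(N, U)) : tm (a • m) n = tm m (a • n) :=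
  TensorProduct.smul_tmul (R := X.sheaf.obj.obj (op U)) (R' := X.sheaf.obj.obj (op U))
    (M := ((fgt X).obj M).obj (op U)) (N := ((fgt X).obj N).obj (op U)) a m n

theorem exists_eq_tm {U : X.Opens} {e : Γ(N, U)} (he : ∀ n : Γ(N, U), ∃ a : Γ(X, U), n = a • e)
    (t : (CohB1.tensorPre M N).obj (op U)) : ∃ m : Γ(M, U), t = tm m e := by
  induction t using TensorProduct.induction_on with
  | zero => exact ⟨0, (TensorProduct.zero_tmul _ _).symm⟩
  | tmul m n =>
    obtain ⟨a, ha⟩ := he n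
    exact ⟨a • (show Γ(M, U) from m), (congrArg (fun n => tm (show Γ(M, U) from m) n) ha).trans (tm_smul a _ e).symm⟩
  | add t t' ht ht' =>
    obtain ⟨a, rfl⟩ := ht
    obtain ⟨a', rfl⟩ := ht'
    exact ⟨a + a', (TensorProduct.add_tmul _ _ _).symm⟩

/-- The local condition for a pairing to induce an isomorphism. -/
def IsLocPerfect (μ : ∀ W : X.Opens, Γ(M, W) → Γ(N, W) → Γ(H, W)) : Prop :=
  ∀ x : X, ∃ (U : X.Opens) (e : Γ(N, U)), x ∈ U ∧ ∀ (V : X.Opens) (h : V ≤ U),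
    (∀ n : Γ(N, V), ∃ a : Γ(X, V), n = a • rs N h e) ∧ Function.Bijective fun m => μ V m (rs N h e)

theorem isLocBij_pre (hp : IsLocPerfect μ) : IsLocBij (pre hμ) := by
  constructor
  · refine ⟨fun {V} t t' h => ?_⟩
    intro x hx
    obtain ⟨U, e, hxU, he⟩ := hp x
    obtain ⟨hgen, hbij⟩ := he (V.unop ⊓ U) inf_le_right
    refine ⟨V.unop ⊓ U, homOfLE inf_le_left, ?_, ⟨hx, hxU⟩⟩
    change res (CohB1.tensorPre M N) (homOfLE inf_le_left).op t =
      res (CohB1.tensorPre M N) (homOfLE inf_le_left).op t'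
    obtain ⟨a, ha⟩ := exists_eq_tm hgen (res _ (homOfLE inf_le_left).op t)
    obtain ⟨a', ha'⟩ := exists_eq_tm hgen (res _ (homOfLE inf_le_left).op t')
    have hev : ((pre hμ).app (op (V.unop ⊓ U))).hom
          (res _ (homOfLE (inf_le_left : V.unop ⊓ U ≤ V.unop)).op t) =
        ((pre hμ).app (op (V.unop ⊓ U))).hom
          (res _ (homOfLE (inf_le_left : V.unop ⊓ U ≤ V.unop)).op t') :=
      (Whisker.res_app (pre hμ) _ t).trans (Eq.trans (congrArg (res _ _) h)
        (Whisker.res_app (pre hμ) _ t').symm)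
    rw [ha, ha', pre_tm, pre_tm] at hev
    rw [ha, ha', hbij.1 hev]
  · refine ⟨fun {V} a => ?_⟩
    intro x hx
    obtain ⟨U, e, hxU, he⟩ := hp x
    obtain ⟨-, hbij⟩ := he (V ⊓ U) inf_le_right
    obtain ⟨m, hm⟩ := hbij.2 (rs H (inf_le_left : V ⊓ U ≤ V) a)
    exact ⟨V ⊓ U, homOfLE inf_le_left, ⟨tm m (rs N inf_le_right e), hm⟩, ⟨hx, hxU⟩⟩

/-- A locally perfect pairing induces `M ⊗ N ≅ H`. -/
def iso (hp : IsLocPerfect μ) : CohB1.tensorMod M N ≅ H :=
  @asIso _ _ _ _ ((sh X).map (pre hμ)) (isIso_sh_map _ (isLocBij_pre hμ hp)) ≪≫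
    (asIso (adj X).counit).app H

end Groth.Agent.Lib.ProjTilde.Pairing
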