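import Groth.Agent.Lib.ProjTilde.Invertible
import Groth.Agent.Lib.ProjTilde.Pairing

/-!
# `M(m)~ ⊗ O(n) ≅ M(m+n)~` where `O(n)` is locally trivialised by homogeneous fractions
-/

noncomputable section

universe u

open CategoryTheory AlgebraicGeometry TopologicalSpace Opposite

namespace Groth.Agent.Lib.ProjTilde.Tensor

open Groth.Agent.Lib.ProjTilde.Frac Groth.Agent.Lib.ProjTilde.Basic Groth.Agent.Lib.ProjTilde.Invertible Groth.Agent.Lib.TensorMod.Dual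

variable {R A : Type u} [CommRing R] [CommRing A] [Algebra R A] {𝒜 : ℕ → Submodule R A} [GradedAlgebra 𝒜]
variable {M : Type u} [AddCommGroup M] [Module R M] [Module A M] {ℳ : ℕ → Submodule R M}
variable [SetLike.GradedSMul 𝒜 ℳ] [DirectSum.Decomposition ℳ]

theorem deg_smul_deg {k l : ℤ} {b : A} {a : M} (hb : Deg 𝒜 l b) (ha : Deg ℳ k a) :
    Deg ℳ (k + l) (b • a) := by
  rcases hb with ⟨i, hi, hb⟩ | rfl
  · exact (ha.smul hb).congr (by omega)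
  · simpa using Deg.zero _

/-- The product `M(m)~ × A(n)~ → M(m+n)~` on sections. -/
def prod {m n : ℤ} {W : Opens (ProjectiveSpectrum.top 𝒜)} (σ : GrTilde.sect 𝒜 ℳ m (op W))
    (τ : GrTilde.sect 𝒜 𝒜 n (op W)) : GrTilde.sect 𝒜 ℳ (m + n) (op W) :=
  secOfRep (fun x => (val τ x : Twist.Loc 𝒜 x.1) • val σ x) fun x => by
    obtain ⟨j, s, a, hs, ha, hsx, hσ⟩ := exists_local_rep σ x
    obtain ⟨l, t, b, ht, hb, htx, hτ⟩ := exists_local_rep τ x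
    refine ⟨l + j, t * s, b • a, SetLike.mul_mem_graded ht hs,
      (deg_smul_deg hb ha).congr (by push_cast; ring),
      fun h => (x.1.isPrime.mem_or_mem h).elim htx hsx, fun y hy => ?_⟩
    rw [hσ y fun h => hy (Ideal.mul_mem_left _ t h), hτ y fun h => hy (Ideal.mul_mem_right s _ h)]
    exact LocalizedModule.mk_smul_mk _ _ _ _

@[simp] theorem val_prod {m n : ℤ} {W : Opens (ProjectiveSpectrum.top 𝒜)} (σ : GrTilde.sect 𝒜 ℳ m (op W))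
    (τ : GrTilde.sect 𝒜 𝒜 n (op W)) (x : W) : val (prod σ τ) x = (val τ x : Twist.Loc 𝒜 x.1) • val σ x := rfl

variable (ℳ) in
theorem isPairing (m n : ℤ) : Pairing.IsPairing (M := GrTilde.tilde 𝒜 ℳ m) (N := GrTilde.tilde 𝒜 𝒜 n)
    (H := GrTilde.tilde 𝒜 ℳ (m + n)) (fun W σ τ => prod (W := W) σ τ) where
  add_left W σ σ' τ := sect_ext (U := W) fun x => smul_add (A := GrTilde.LocMod 𝒜 (M := M) x.1) _ _ _
  smul_left W r σ τ := sect_ext (U := W) fun x =>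
    smul_comm (α := GrTilde.LocMod 𝒜 (M := M) x.1) (val (U := W) τ x : Twist.Loc 𝒜 x.1) (r.1 x).val _
  add_right W σ τ τ' := sect_ext (U := W) fun x =>
    add_smul (val (U := W) τ x : Twist.Loc 𝒜 x.1) (val (U := W) τ' x) (val (U := W) σ x)
  smul_right W r σ τ := sect_ext (U := W) fun x =>
    mul_smul (r.1 x).val (val (U := W) τ x : Twist.Loc 𝒜 x.1) (val (U := W) σ x)
  nat W W' h σ τ := sect_ext (U := W') fun x => rfl

theorem isLocPerfect (m n : ℤ)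
    (hcov : ∀ x : ProjectiveSpectrum 𝒜, ∃ (p q : ℕ) (c e : A), c ∈ 𝒜 p ∧ e ∈ 𝒜 q ∧ (p : ℤ) = q + n ∧
      c * e ∉ x.asHomogeneousIdeal) :
    Pairing.IsLocPerfect (M := GrTilde.tilde 𝒜 ℳ m) (N := GrTilde.tilde 𝒜 𝒜 n)
      (H := GrTilde.tilde 𝒜 ℳ (m + n)) (fun W σ τ => prod (W := W) σ τ) := fun x => by
  obtain ⟨p, q, c, e, hc, he, hn, hx⟩ := hcov x
  let U : (Proj 𝒜).Opens := Proj.basicOpen 𝒜 (c * e)
  let ε : GrTilde.sect 𝒜 𝒜 n (op U) := fracSec U (s := e) (a := c) he (Deg.of_mem hc (Or.inl hn))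
    fun y hy => fun h => hy (Ideal.mul_mem_left _ c h)
  refine ⟨U, ε, hx, fun V hV => ⟨fun τ => ?_, ?_⟩⟩
  · obtain ⟨r, hr⟩ := ofFun_surjective
      (mulSec (n := n) (n' := 0) he hc (by omega) (W := V) (by rwa [mul_comm e c]) τ)
    refine ⟨r, sect_ext (U := V) fun y => ?_⟩
    have hr' : (r.1 y).val = unitAt y.1 e c _ • val (U := V) τ y := congrArg (fun σ => val σ y) hr
    change val (U := V) τ y = (r.1 y).val • unitAt y.1 c e _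
    rw [hr', smul_eq_mul, mul_comm, smul_eq_mul]
    · change (val (U := V) τ y : Twist.Loc 𝒜 y.1) =
        unitAt y.1 c e _ * (unitAt y.1 e c _ * (val (U := V) τ y : Twist.Loc 𝒜 y.1))
      rw [← mul_assoc, unitAt_mul_unitAt y.1 (notMem_right hV y) (notMem_left hV y), one_mul]
  · exact (mulEquiv (n := m) (n' := m + n) (ℳ := ℳ) hc he (by omega) (W := V) hV).bijective

/-- `M(m)~ ⊗ A(n)~ ≅ M(m+n)~`. -/
def tensorTildeIso (m n : ℤ)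
    (hcov : ∀ x : ProjectiveSpectrum 𝒜, ∃ (p q : ℕ) (c e : A), c ∈ 𝒜 p ∧ e ∈ 𝒜 q ∧ (p : ℤ) = q + n ∧
      c * e ∉ x.asHomogeneousIdeal) :
    CohB1.tensorMod (GrTilde.tilde 𝒜 ℳ m) (GrTilde.tilde 𝒜 𝒜 n) ≅ GrTilde.tilde 𝒜 ℳ (m + n) :=
  Pairing.iso (isPairing ℳ m n) (isLocPerfect m n hcov)

theorem cover_of_degOne (hcov : ∀ x : ProjectiveSpectrum 𝒜, ∃ f ∈ 𝒜 1, f ∉ x.asHomogeneousIdeal) (n : ℤ)
    (x : ProjectiveSpectrum 𝒜) : ∃ (p q : ℕ) (c e : A), c ∈ 𝒜 p ∧ e ∈ 𝒜 q ∧ (p : ℤ) = q + n ∧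
      c * e ∉ x.asHomogeneousIdeal := by
  obtain ⟨f, hf, hfx⟩ := hcov x
  refine ⟨_, _, f ^ n.toNat, f ^ (-n).toNat, SetLike.pow_mem_graded _ hf, SetLike.pow_mem_graded _ hf,
    by simp only [smul_eq_mul, mul_one]; omega, fun h => ?_⟩
  rcases x.isPrime.mem_or_mem h with h | h <;> exact hfx (x.isPrime.mem_of_pow_mem _ h)

/-- `M(m)~ ⊗ O(n) ≅ M(m+n)~` when `D₊(f)`, `f` of degree one, cover `Proj`. -/
def tensorTwistIso (hcov : ∀ x : ProjectiveSpectrum 𝒜, ∃ f ∈ 𝒜 1, f ∉ x.asHomogeneousIdeal) (m n : ℤ) :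
    CohB1.tensorMod (GrTilde.tilde 𝒜 ℳ m) (Twist.twist 𝒜 n) ≅ GrTilde.tilde 𝒜 ℳ (m + n) :=
  Groth.Agent.Lib.TensorMod.Basic.tensorIso (Iso.refl _) (twistIsoTilde n) ≪≫
    tensorTildeIso m n (cover_of_degOne hcov n)

/-- `O(m) ⊗ O(n) ≅ O(m+n)`. -/
def twistTensorIso (hcov : ∀ x : ProjectiveSpectrum 𝒜, ∃ f ∈ 𝒜 1, f ∉ x.asHomogeneousIdeal) (m n : ℤ) :
    CohB1.tensorMod (Twist.twist 𝒜 m) (Twist.twist 𝒜 n) ≅ Twist.twist 𝒜 (m + n) :=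
  Groth.Agent.Lib.TensorMod.Basic.tensorIso (twistIsoTilde m) (Iso.refl _) ≪≫
    tensorTwistIso hcov m n ≪≫ (twistIsoTilde (m + n)).symm

/-- `O(n) ≅ O(1)^{⊗ n}`. -/
theorem twist_iso_tensorPow (hcov : ∀ x : ProjectiveSpectrum 𝒜, ∃ f ∈ 𝒜 1, f ∉ x.asHomogeneousIdeal) :
    ∀ n : ℕ, Nonempty (Twist.twist 𝒜 (n : ℤ) ≅ CohB1.tensorPow (Twist.twist 𝒜 1) n)
  | 0 => ⟨twistIsoTilde 0 ≪≫ unitIsoTilde.symm⟩
  | n + 1 => by
    obtain ⟨i⟩ := twist_iso_tensorPow hcov n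
    exact ⟨eqToIso (by push_cast; rfl) ≪≫ (twistTensorIso hcov (n : ℤ) 1).symm ≪≫
      Groth.Agent.Lib.TensorMod.Basic.tensorIso i (Iso.refl _)⟩

end Groth.Agent.Lib.ProjTilde.Tensor
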