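import Groth.Prelude.Def_Pic

/-!
# Invertibility from local trivialisations in the ambient scheme
-/

noncomputable section

universe u

open CategoryTheory AlgebraicGeometry TopologicalSpace Opposite

namespace Groth.Agent.Lib.ProjTilde.LocTriv

/-- Trivialisations pull back to any open immersion landing in the open. -/
theorem nonempty_restrict_iso_unit {X W : Scheme.{u}} {L : X.Modules} {U : X.Opens}
    (e : L.restrict U.ι ≅ Coh.structureModule (U : Scheme.{u})) (f : W ⟶ X) [IsOpenImmersion f]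
    (h : f.opensRange ≤ U) : Nonempty (L.restrict f ≅ Coh.structureModule W) := by
  have hr : Set.range f.base ⊆ Set.range U.ι.base := by
    rw [Scheme.Opens.range_ι]; exact h
  let g : W ⟶ U := IsOpenImmersion.lift U.ι f hr
  have hg : g ≫ U.ι = f := IsOpenImmersion.lift_fac U.ι f hr
  haveI : IsOpenImmersion (g ≫ U.ι) := hg.symm ▸ inferInstance
  haveI : IsOpenImmersion g := IsOpenImmersion.of_comp g U.ι
  exact ⟨(Scheme.Modules.restrictFunctorCongr hg.symm).app L ≪≫
    (Scheme.Modules.restrictFunctorComp g U.ι).app L ≪≫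
    (Scheme.Modules.restrictFunctor g).mapIso e ≪≫ Scheme.Modules.restrictUnitIso g⟩

/-- A module trivial near every point of an open `V` is invertible on `V`. -/
theorem isInvertible_restrict {X : Scheme.{u}} {L : X.Modules} (V : X.Opens)
    (h : ∀ x ∈ V, ∃ U : X.Opens, x ∈ U ∧ Nonempty (L.restrict U.ι ≅ Coh.structureModule (U : Scheme.{u}))) :
    PicF.IsInvertible (L.restrict V.ι) := by
  intro y
  obtain ⟨U, hyU, ⟨e⟩⟩ := h y.1 y.2
  let W : (V : Scheme.{u}).Opens := V.ι ⁻¹ᵁ U
  have hr : (W.ι ≫ V.ι).opensRange ≤ U := by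
    rintro _ ⟨z, rfl⟩
    exact z.2
  obtain ⟨e'⟩ := nonempty_restrict_iso_unit e (W.ι ≫ V.ι) hr
  exact ⟨W, hyU, ⟨((Scheme.Modules.restrictFunctorComp W.ι V.ι).app L).symm ≪≫ e'⟩⟩

theorem isInvertible_of_cover {X : Scheme.{u}} {L : X.Modules} {ι : Type*} (U : ι → X.Opens)
    (hU : ∀ x, ∃ i, x ∈ U i)
    (h : ∀ i, Nonempty (L.restrict (U i).ι ≅ Coh.structureModule (U i : Scheme.{u}))) :
    PicF.IsInvertible L := fun x => by
  obtain ⟨i, hi⟩ := hU x
  exact ⟨U i, hi, h i⟩

end Groth.Agent.Lib.ProjTilde.LocTriv
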