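import Groth.Agent.Lib.ProjTilde.Basic
import Groth.Agent.Lib.ProjTilde.LocTriv

/-!
# Invertibility of the twisting sheaves
-/

noncomputable section

universe u

open CategoryTheory AlgebraicGeometry TopologicalSpace Opposite

namespace Groth.Agent.Lib.ProjTilde.Invertible

open Groth.Agent.Lib.ProjTilde.Frac Groth.Agent.Lib.ProjTilde.Basic Groth.Agent.Lib.ProjTilde.LocTriv

variable {R A : Type u} [CommRing R] [CommRing A] [Algebra R A] {𝒜 : ℕ → Submodule R A} [GradedAlgebra 𝒜]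

/-- If `a` has degree `deg b + d`, then `O(nd)` is trivial on `D₊(ab)` for every integer `n`. -/
theorem twist_trivial_basicOpen_mul {d i j : ℕ} {a b : A} (ha : a ∈ 𝒜 i) (hb : b ∈ 𝒜 j) (hij : i = j + d)
    (n : ℤ) {U : (Proj 𝒜).Opens} (hU : U ≤ Proj.basicOpen 𝒜 (a * b)) :
    Nonempty ((Twist.twist 𝒜 (n * d)).restrict U.ι ≅ Coh.structureModule (U : Scheme.{u})) := by
  have hc := SetLike.mul_mem_graded (SetLike.pow_mem_graded n.toNat ha) (SetLike.pow_mem_graded (-n).toNat hb)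
  have he := SetLike.mul_mem_graded (SetLike.pow_mem_graded n.toNat hb) (SetLike.pow_mem_graded (-n).toNat ha)
  refine twist_restrict_iso_unit hc he ?_ fun x hx => ?_
  · have h0 : n = (n.toNat : ℤ) - ((-n).toNat : ℤ) := by omega
    subst hij
    simp only [smul_eq_mul]
    push_cast
    linear_combination (d : ℤ) * -h0
  · have hab := hU hx
    rw [Proj.mem_basicOpen] at hab ⊢
    have hax : a ∉ x.asHomogeneousIdeal := fun h => hab (Ideal.mul_mem_right _ _ h)
    have hbx : b ∉ x.asHomogeneousIdeal := fun h => hab (Ideal.mul_mem_left _ _ h)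
    have key : ∀ {c : A} (k : ℕ), c ∉ x.asHomogeneousIdeal → c ^ k ∈ x.asHomogeneousIdeal.toIdeal.primeCompl :=
      fun k hc => Submonoid.pow_mem x.asHomogeneousIdeal.toIdeal.primeCompl hc k
    exact mul_mem (mul_mem (key _ hax) (key _ hbx)) (mul_mem (key _ hbx) (key _ hax))

theorem twist_trivial_basicOpen {d : ℕ} {f : A} (hf : f ∈ 𝒜 d) (n : ℤ) {U : (Proj 𝒜).Opens}
    (hU : U ≤ Proj.basicOpen 𝒜 f) :
    Nonempty ((Twist.twist 𝒜 (n * d)).restrict U.ι ≅ Coh.structureModule (U : Scheme.{u})) :=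
  twist_trivial_basicOpen_mul hf SetLike.GradedOne.one_mem (zero_add d).symm n (by rwa [mul_one])

/-- If `𝒜₊` is generated by `𝒜 1`, the `D₊(f)` with `f` of degree one cover `Proj`. -/
theorem exists_degOne_notMem (hgen : (HomogeneousIdeal.irrelevant 𝒜).toIdeal = Ideal.span (𝒜 1 : Set A))
    (x : ProjectiveSpectrum 𝒜) : ∃ f ∈ 𝒜 1, f ∉ x.asHomogeneousIdeal := by
  by_contra h
  push Not at h
  refine x.not_irrelevant_le ?_
  change (HomogeneousIdeal.irrelevant 𝒜).toIdeal ≤ x.asHomogeneousIdeal.toIdeal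
  rw [hgen, Ideal.span_le]
  exact h

theorem twist_isInvertible_of_cover (hcov : ∀ x : ProjectiveSpectrum 𝒜, ∃ f ∈ 𝒜 1, f ∉ x.asHomogeneousIdeal)
    (n : ℤ) : PicF.IsInvertible (Twist.twist 𝒜 n) := fun x => by
  obtain ⟨f, hf, hfx⟩ := hcov x
  exact ⟨Proj.basicOpen 𝒜 f, hfx, by simpa using twist_trivial_basicOpen hf n le_rfl⟩

end Groth.Agent.Lib.ProjTilde.Invertible
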