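import Groth.Agent.Lib.ProjTilde.Basic
import Groth.Agent.Lib.QCoh.Localizing

/-!
# `M(n)~` is quasi-coherent
-/

noncomputable section

universe u

open CategoryTheory AlgebraicGeometry TopologicalSpace Opposite

namespace Groth.Agent.Lib.ProjTilde.QCoh

open Groth.Agent.Lib.ProjTilde.Frac Groth.Agent.Lib.ProjTilde.Basic Groth.Agent.Lib.QCoh.Localizing

variable {R A : Type u} [CommRing R] [CommRing A] [Algebra R A] {𝒜 : ℕ → Submodule R A} [GradedAlgebra 𝒜]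

/-- The value at a point of a function on `D₊(f)`. -/
theorem val_awayToSection {d : ℕ} {f : A} (hf : f ∈ 𝒜 d) (e : ℕ) (h : A) (hh : h ∈ 𝒜 (e • d))
    (x : ProjectiveSpectrum.basicOpen 𝒜 f) (hx : f ^ e ∉ x.1.asHomogeneousIdeal) :
    (((Proj.awayToSection 𝒜 f (HomogeneousLocalization.Away.mk 𝒜 hf e h hh)) :
        Twist.O (𝒜 := 𝒜) (op (ProjectiveSpectrum.basicOpen 𝒜 f))).1 x).val =
      Localization.mk h ⟨f ^ e, hx⟩ := rfl

/-- The non-vanishing locus of the function `h / f^e` on `D₊(f)` is `D₊(fh)`. -/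
theorem basicOpen_awayToSection {d : ℕ} {f : A} (hf : f ∈ 𝒜 d) (e : ℕ) (h : A) (hh : h ∈ 𝒜 (e • d)) :
    (Proj 𝒜).basicOpen (Proj.awayToSection 𝒜 f (HomogeneousLocalization.Away.mk 𝒜 hf e h hh)) =
      Proj.basicOpen 𝒜 (f * h) := by
  apply Opens.ext
  apply Set.ext
  intro x
  by_cases hxf : x ∈ Proj.basicOpen 𝒜 f
  · have hfe : f ^ e ∉ x.asHomogeneousIdeal := fun h => hxf (x.isPrime.mem_of_pow_mem e h)
    let r := Proj.awayToSection 𝒜 f (HomogeneousLocalization.Away.mk 𝒜 hf e h hh)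
    have hgerm : IsUnit ((Proj 𝒜).presheaf.germ _ x hxf r) ↔
        IsUnit ((r : Twist.O (𝒜 := 𝒜) (op (ProjectiveSpectrum.basicOpen 𝒜 f))).1 ⟨x, hxf⟩) := by
      exact (isUnit_map_iff (Proj.stalkIso' 𝒜 x) _).symm.trans
        (iff_of_eq (congrArg IsUnit (Proj.stalkIso'_germ 𝒜 _ x hxf r)))
    rw [SetLike.mem_coe, Scheme.mem_basicOpen _ _ x hxf, SetLike.mem_coe, hgerm]
    refine ((HomogeneousLocalization.isUnit_iff_isUnit_val _ _ _).symm.trans ?_)
    refine (iff_of_eq (congrArg IsUnit (val_awayToSection hf e h hh ⟨x, hxf⟩ hfe))).trans ?_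
    rw [Localization.mk_eq_mk',
      IsLocalization.AtPrime.isUnit_mk'_iff _ x.asHomogeneousIdeal.toIdeal, Proj.mem_basicOpen]
    exact ⟨fun hhx hfh => (x.isPrime.mem_or_mem hfh).elim hxf hhx,
      fun hfh hhx => hfh (Ideal.mul_mem_left _ f hhx)⟩
  · refine iff_of_false (fun hm => hxf ((Proj 𝒜).basicOpen_le _ hm)) fun hm => hxf ?_
    rw [Proj.mem_basicOpen]
    exact fun hh' => hm (Ideal.mul_mem_right h _ hh')

variable {M : Type u} [AddCommGroup M] [Module R M] [Module A M] {ℳ : ℕ → Submodule R M}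
variable [SetLike.GradedSMul 𝒜 ℳ] [DirectSum.Decomposition ℳ]

theorem val_pow_smul {n : ℤ} {U : Opens (ProjectiveSpectrum.top 𝒜)} (r : Twist.O (𝒜 := 𝒜) (op U)) (N : ℕ)
    (σ : GrTilde.sect 𝒜 ℳ n (op U)) (x : U) : val (r ^ N • σ) x = (r.1 x).val ^ N • val σ x := by
  rw [val_smul, ← HomogeneousLocalization.val_pow]
  rfl

/-- Sections of `M(n)~` localize on `D₊(f)`. -/
theorem localizes_basicOpen (n : ℤ) {d : ℕ} {f : A} (hd : 0 < d) (hf : f ∈ 𝒜 d)
    (F : Γ(Proj 𝒜, Proj.basicOpen 𝒜 f)) : Localizes (GrTilde.tilde 𝒜 ℳ n) F := by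
  obtain ⟨z, rfl⟩ := (ConcreteCategory.bijective_of_isIso (Proj.basicOpenIsoAway 𝒜 f hf hd).hom).2 F
  obtain ⟨e, h, hh, rfl⟩ := HomogeneousLocalization.Away.mk_surjective 𝒜 hf z
  rw [Proj.basicOpenIsoAway_hom]
  have hb := basicOpen_awayToSection hf e h hh
  have hfh : f * h ∈ 𝒜 (d + e • d) := SetLike.mul_mem_graded hf hh
  have hle : Proj.basicOpen 𝒜 (f * h) ≤ Proj.basicOpen 𝒜 f := fun x hx hh' =>
    hx (Ideal.mul_mem_right h _ hh')
  constructor
  · intro s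
    obtain ⟨k, i, m, hm, hi, hs⟩ := exists_frac_basicOpen (by omega) hfh
      (GrTilde.res 𝒜 ℳ n (homOfLE hb.ge).op s)
    refine ⟨k, fracSec _ (s := f ^ ((e + 1) * k)) (a := m) (SetLike.pow_mem_graded _ hf)
      (Deg.of_mem hm (Or.inl (by rw [hi]; simp only [smul_eq_mul]; push_cast; ring)))
      (fun x hx => fun hh' => hx (x.isPrime.mem_of_pow_mem _ hh')), ?_⟩
    refine sect_ext fun x => ?_
    have hxfh : f * h ∉ x.1.asHomogeneousIdeal := hb.le x.2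
    have hfx : f ∉ x.1.asHomogeneousIdeal := fun hh' => hxfh (Ideal.mul_mem_right h _ hh')
    have hfhk : (f * h) ^ k ∉ x.1.asHomogeneousIdeal := fun hh' => hxfh (x.1.isPrime.mem_of_pow_mem k hh')
    have hsx : val s x = LocalizedModule.mk m ⟨(f * h) ^ k, hfhk⟩ := hs ⟨x.1, hxfh⟩ hfhk
    refine Eq.trans ?_ (val_pow_smul _ k s x).symm
    change (LocalizedModule.mk m ⟨f ^ ((e + 1) * k), _⟩ : GrTilde.LocMod 𝒜 (M := M) x.1) =
      (Localization.mk h ⟨f ^ e, _⟩ : Twist.Loc 𝒜 x.1) ^ k • val s x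
    rw [hsx, Localization.mk_pow, LocalizedModule.mk_smul_mk, LocalizedModule.mk_eq]
    refine ⟨1, ?_⟩
    simp only [one_smul, Submonoid.smul_def, Submonoid.coe_mul, SubmonoidClass.coe_pow, smul_smul]
    congr 1
    ring
  · intro t ht
    obtain ⟨k, i, m, hm, hi, hs⟩ := exists_frac_basicOpen hd hf t
    obtain ⟨N, hN⟩ := exists_pow_smul_eq_zero (m := m) (d := d + e • d) (f := f * h) (by omega) hfh fun x => by
      have hfx : f ∉ x.1.asHomogeneousIdeal := fun hh' => x.2 (Ideal.mul_mem_right h _ hh')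
      have h0 := congrArg (fun σ => val σ ⟨x.1, hb.ge x.2⟩) ht
      exact (mk_eq_zero_iff hm).mp
        ((hs ⟨x.1, hfx⟩ fun hh' => hfx (x.1.isPrime.mem_of_pow_mem k hh')).symm.trans h0)
    refine ⟨N, sect_ext fun x => ?_⟩
    have hfx : f ∉ x.1.asHomogeneousIdeal := x.2
    have hfk : f ^ k ∉ x.1.asHomogeneousIdeal := fun hh' => hfx (x.1.isPrime.mem_of_pow_mem k hh')
    refine (val_pow_smul _ N t x).trans ?_
    rw [hs x hfk]
    change (Localization.mk h ⟨f ^ e, _⟩ : Twist.Loc 𝒜 x.1) ^ N • _ = 0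
    rw [Localization.mk_pow, LocalizedModule.mk_smul_mk,
      ← LocalizedModule.zero_mk (1 : x.1.asHomogeneousIdeal.toIdeal.primeCompl), LocalizedModule.mk_eq]
    refine ⟨⟨f ^ N, fun hh' => hfx (x.1.isPrime.mem_of_pow_mem N hh')⟩, ?_⟩
    simp only [one_smul, Submonoid.smul_def, smul_zero, OneMemClass.coe_one, smul_smul, ← mul_pow]
    exact hN

theorem tilde_isQCoh (n : ℤ) : Coh.IsQCoh (GrTilde.tilde 𝒜 ℳ n) := by
  refine isQCoh_of_forall_exists_localizes fun x => ?_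
  obtain ⟨d, hd, f, hf, hfx⟩ : ∃ d, 0 < d ∧ ∃ f ∈ 𝒜 d, f ∉ x.asHomogeneousIdeal := by
    by_contra h
    push Not at h
    exact x.not_irrelevant_le ((HomogeneousIdeal.irrelevant_le 𝒜).mpr h)
  exact ⟨Proj.basicOpen 𝒜 f, Proj.isAffineOpen_basicOpen 𝒜 f hf hd, hfx, localizes_basicOpen n hd hf⟩

theorem twist_isQCoh (n : ℤ) : Coh.IsQCoh (Twist.twist 𝒜 n) :=
  (SheafOfModules.isQuasicoherent (Proj 𝒜).ringCatSheaf).prop_of_iso (twistIsoTilde n).symm (tilde_isQCoh n)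

end Groth.Agent.Lib.ProjTilde.QCoh
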