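import Groth.Prelude.Def_Coh

/-!
# Building morphisms of restricted O-modules from sectionwise data
-/

noncomputable section

universe u

open CategoryTheory AlgebraicGeometry TopologicalSpace Opposite

namespace Groth.Agent.Lib.ProjTilde.Hom

variable {X : Scheme.{u}} {M N : X.Modules}

/-- A morphism of O-modules from additive, linear, natural maps on sections. -/
def homMk (app : ∀ U : X.Opens, Γ(M, U) →+ Γ(N, U))
    (smul : ∀ (U : X.Opens) (r : Γ(X, U)) (m : Γ(M, U)), app U (r • m) = r • app U m)
    (nat : ∀ (U V : X.Opens) (h : V ≤ U) (m : Γ(M, U)),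
      app V (M.presheaf.map (homOfLE h).op m) = N.presheaf.map (homOfLE h).op (app U m)) : M ⟶ N :=
  ⟨PresheafOfModules.homMk
    { app := fun U => AddCommGrpCat.ofHom (app U.unop)
      naturality := fun U V i => by
        ext m
        exact nat U.unop V.unop (leOfHom i.unop) m }
    fun U r m => smul U.unop r m⟩

@[simp] theorem homMk_app (app : ∀ U : X.Opens, Γ(M, U) →+ Γ(N, U)) (smul) (nat) (U : X.Opens)
    (m : Γ(M, U)) : (homMk app smul nat).app U m = app U m := rfl

/-- An isomorphism of O-modules from bijective additive, linear, natural maps on sections. -/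
def isoMk (app : ∀ U : X.Opens, Γ(M, U) ≃+ Γ(N, U))
    (smul : ∀ (U : X.Opens) (r : Γ(X, U)) (m : Γ(M, U)), app U (r • m) = r • app U m)
    (nat : ∀ (U V : X.Opens) (h : V ≤ U) (m : Γ(M, U)),
      app V (M.presheaf.map (homOfLE h).op m) = N.presheaf.map (homOfLE h).op (app U m)) : M ≅ N :=
  haveI : IsIso (homMk (fun U => (app U).toAddMonoidHom) smul nat) :=
    Scheme.Modules.Hom.isIso_iff_isIso_app.mpr fun U =>
      (ConcreteCategory.isIso_iff_bijective _).mpr (app U).bijective
  asIso (homMk (fun U => (app U).toAddMonoidHom) smul nat)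

theorem image_le {U : X.Opens} (V : (U : Scheme.{u}).Opens) : U.ι ''ᵁ V ≤ U := by
  rintro _ ⟨y, -, rfl⟩; exact y.2

/-- An isomorphism between restrictions to `U` from maps on sections over the opens inside `U`. -/
def restrictIsoMk (U : X.Opens) (app : ∀ W : X.Opens, W ≤ U → (Γ(M, W) ≃+ Γ(N, W)))
    (smul : ∀ (W : X.Opens) (hW : W ≤ U) (r : Γ(X, W)) (m : Γ(M, W)), app W hW (r • m) = r • app W hW m)
    (nat : ∀ (W W' : X.Opens) (hW : W ≤ U) (h : W' ≤ W) (m : Γ(M, W)),
      app W' (h.trans hW) (M.presheaf.map (homOfLE h).op m) = N.presheaf.map (homOfLE h).op (app W hW m)) :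
    M.restrict U.ι ≅ N.restrict U.ι :=
  isoMk (fun V => app (U.ι ''ᵁ V) (image_le V))
    (fun V r m => smul _ (image_le V) ((U.ι.appIso V).inv r) m)
    (fun V V' h m => nat _ _ (image_le V) (Scheme.Hom.image_mono _ h) m)

end Groth.Agent.Lib.ProjTilde.Hom
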