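import Groth.Agent.Lib.ProjTilde.Frac
import Groth.Agent.Lib.ProjTilde.Hom

/-!
# Comparison isomorphisms: `O(n) = A(n)~`, `O(0) = O`, multiplication by homogeneous units
-/

noncomputable section

universe u

open CategoryTheory AlgebraicGeometry TopologicalSpace Opposite

namespace Groth.Agent.Lib.ProjTilde.Basic

open Groth.Agent.Lib.ProjTilde.Frac Groth.Agent.Lib.ProjTilde.Hom

variable {R A : Type u} [CommRing R] [CommRing A] [Algebra R A] {𝒜 : ℕ → Submodule R A} [GradedAlgebra 𝒜]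
variable {M : Type u} [AddCommGroup M] [Module R M] [Module A M] {ℳ : ℕ → Submodule R M}
variable [SetLike.GradedSMul 𝒜 ℳ] [DirectSum.Decomposition ℳ]

theorem val_add {n : ℤ} {U : Opens (ProjectiveSpectrum.top 𝒜)} (σ τ : GrTilde.sect 𝒜 ℳ n (op U)) (x : U) :
    val (σ + τ) x = val σ x + val τ x := rfl

theorem val_zero {n : ℤ} {U : Opens (ProjectiveSpectrum.top 𝒜)} (x : U) :
    val (0 : GrTilde.sect 𝒜 ℳ n (op U)) x = 0 := rfl

theorem val_smul {n : ℤ} {U : Opens (ProjectiveSpectrum.top 𝒜)} (r : Twist.O (𝒜 := 𝒜) (op U))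
    (σ : GrTilde.sect 𝒜 ℳ n (op U)) (x : U) : val (r • σ) x = (r.1 x).val • val σ x := rfl

/-- A family of values that is locally one fraction of degree `n` gives a section. -/
def secOfRep {n : ℤ} {U : Opens (ProjectiveSpectrum.top 𝒜)}
    (v : ∀ x : U, GrTilde.LocMod 𝒜 (M := M) x.1)
    (h : ∀ x : U, ∃ (j : ℕ) (s : A) (a : M), s ∈ 𝒜 j ∧ Deg ℳ (j + n) a ∧ s ∉ x.1.asHomogeneousIdeal ∧
      ∀ (y : U) (hy : s ∉ y.1.asHomogeneousIdeal), v y = LocalizedModule.mk a ⟨s, hy⟩) :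
    GrTilde.sect 𝒜 ℳ n (op U) :=
  ⟨fun x => ⟨v x, by
      obtain ⟨j, s, a, hs, ha, hsx, hv⟩ := h x
      exact hv x hsx ▸ frac_mem_tildeAt hs hsx ha⟩,
    fun x => by
      obtain ⟨j, s, a, hs, ha, hsx, hv⟩ := h x
      obtain ⟨i, hi, hij⟩ := ha.exists_mem
      exact ⟨ProjectiveSpectrum.basicOpen 𝒜 s ⊓ U, ⟨hsx, x.2⟩, Opens.infLERight _ _, i, j, ⟨a, hi⟩, ⟨s, hs⟩,
        fun y => y.2.1, hij, fun y => hv ⟨y.1, y.2.2⟩ y.2.1⟩⟩

@[simp] theorem val_secOfRep {n : ℤ} {U : Opens (ProjectiveSpectrum.top 𝒜)}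
    (v : ∀ x : U, GrTilde.LocMod 𝒜 (M := M) x.1) (h) (x : U) :
    val (secOfRep (ℳ := ℳ) (n := n) v h) x = v x := rfl

section Mul

variable {p q : ℕ} {c e : A} {n n' : ℤ}

/-- The unit `c / e` in the localization at `x`. -/
abbrev unitAt (x : ProjectiveSpectrum 𝒜) (c e : A) (he : e ∉ x.asHomogeneousIdeal) : Twist.Loc 𝒜 x :=
  Localization.mk c ⟨e, he⟩

theorem unitAt_mul_unitAt (x : ProjectiveSpectrum 𝒜) (hc : c ∉ x.asHomogeneousIdeal)
    (he : e ∉ x.asHomogeneousIdeal) : unitAt x e c hc * unitAt x c e he = 1 := by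
  rw [Localization.mk_mul, ← Localization.mk_one, Localization.mk_eq_mk_iff, Localization.r_iff_exists]
  exact ⟨1, by simp [mul_comm]⟩

variable (hc : c ∈ 𝒜 p) (he : e ∈ 𝒜 q) (hn : n' + q = n + p)
variable {U : (Proj 𝒜).Opens} (hU : U ≤ Proj.basicOpen 𝒜 (c * e))

theorem notMem_left {W : (Proj 𝒜).Opens} (hU : W ≤ Proj.basicOpen 𝒜 (c * e)) (x : W) :
    c ∉ x.1.asHomogeneousIdeal := fun h => hU x.2 (Ideal.mul_mem_right e _ h)

theorem notMem_right {W : (Proj 𝒜).Opens} (hU : W ≤ Proj.basicOpen 𝒜 (c * e)) (x : W) :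
    e ∉ x.1.asHomogeneousIdeal := fun h => hU x.2 (Ideal.mul_mem_left _ c h)

/-- Multiplication of sections by `c / e`. -/
def mulSec {W : (Proj 𝒜).Opens} (hW : W ≤ Proj.basicOpen 𝒜 (c * e))
    (σ : GrTilde.sect 𝒜 ℳ n (op W)) : GrTilde.sect 𝒜 ℳ n' (op W) :=
  secOfRep (fun x => unitAt x.1 c e (notMem_right hW x) • val σ x) fun x => by
    obtain ⟨j, s, a, hs, ha, hsx, hv⟩ := exists_local_rep σ x
    refine ⟨q + j, e * s, c • a, SetLike.mul_mem_graded he hs,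
      (ha.smul hc).congr (by push_cast; linarith [hn]),
      fun h => (x.1.isPrime.mem_or_mem h).elim (notMem_right hW x) hsx, fun y hy => ?_⟩
    rw [hv y fun h => hy (Ideal.mul_mem_left _ e h), LocalizedModule.mk_smul_mk]
    rfl

@[simp] theorem val_mulSec {W : (Proj 𝒜).Opens} (hW : W ≤ Proj.basicOpen 𝒜 (c * e))
    (σ : GrTilde.sect 𝒜 ℳ n (op W)) (x : W) :
    val (mulSec hc he hn hW σ) x = unitAt x.1 c e (notMem_right hW x) • val σ x := rfl

/-- Multiplication of sections by `c / e`, as an additive equivalence. -/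
def mulEquiv {W : (Proj 𝒜).Opens} (hW : W ≤ Proj.basicOpen 𝒜 (c * e)) :
    GrTilde.sect 𝒜 ℳ n (op W) ≃+ GrTilde.sect 𝒜 ℳ n' (op W) where
  toFun := mulSec hc he hn hW
  invFun := mulSec he hc hn.symm (by rwa [mul_comm e c])
  left_inv σ := sect_ext fun x => by
    rw [val_mulSec, val_mulSec, smul_smul, unitAt_mul_unitAt x.1 (notMem_left hW x), one_smul]
  right_inv σ := sect_ext fun x => by
    rw [val_mulSec, val_mulSec, smul_smul, unitAt_mul_unitAt x.1 (notMem_right hW x), one_smul]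
  map_add' σ τ := sect_ext fun x => by exact smul_add _ _ _

/-- On an open where `c` and `e` do not vanish, multiplication by `c / e` is `M(n)~ ≅ M(n')~`. -/
def mulIso : (GrTilde.tilde 𝒜 ℳ n).restrict U.ι ≅ (GrTilde.tilde 𝒜 ℳ n').restrict U.ι :=
  restrictIsoMk U (fun W hW => mulEquiv hc he hn (hW.trans hU))
    (fun W hW r σ => sect_ext fun x => by
      change unitAt x.1 c e _ • ((r.1 x).val • val σ x) = (r.1 x).val • (unitAt x.1 c e _ • val σ x)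
      exact smul_comm _ _ _)
    (fun W W' hW h σ => sect_ext fun x => rfl)

end Mul

section Self

theorem twist_local_rep {n : ℤ} {U : Opens (ProjectiveSpectrum.top 𝒜)} (σ : Twist.sectN (𝒜 := 𝒜) n (op U))
    (x : U) : ∃ (j : ℕ) (s : A) (a : A), s ∈ 𝒜 j ∧ Deg 𝒜 (j + n) a ∧ s ∉ x.1.asHomogeneousIdeal ∧
      ∀ (y : U) (hy : s ∉ y.1.asHomogeneousIdeal),
        ((σ.1 y : Twist.twistAt 𝒜 n y.1) : Twist.Loc 𝒜 y.1) =
          (LocalizedModule.mk a ⟨s, hy⟩ : GrTilde.LocMod 𝒜 (M := A) y.1) := by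
  obtain ⟨V, hxV, iV, i, j, ⟨a, ha⟩, ⟨t, ht⟩, hnin, hij, hw⟩ := σ.2 x
  obtain ⟨k, h, hk, hxh, hhV⟩ := exists_homog_basicOpen_le V x.1 hxV
  refine ⟨k + j, h * t, h • a, SetLike.mul_mem_graded hk ht,
    ((Deg.of_mem (ℳ := 𝒜) ha hij).smul hk).congr (by push_cast; ring),
    fun hh => (x.1.isPrime.mem_or_mem hh).elim hxh (hnin ⟨x.1, hxV⟩), fun y hy => ?_⟩
  have hyV : y.1 ∈ V := hhV fun hh => hy (Ideal.mul_mem_right t _ hh)
  exact (hw ⟨y.1, hyV⟩).trans (mk_smul_den (hnin ⟨y.1, hyV⟩) hy).symm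

/-- A section of `O(n)` as a section of `A(n)~`. -/
def twistToTilde {n : ℤ} {U : Opens (ProjectiveSpectrum.top 𝒜)} (σ : Twist.sectN (𝒜 := 𝒜) n (op U)) :
    GrTilde.sect 𝒜 𝒜 n (op U) :=
  secOfRep (fun x => ((σ.1 x : Twist.twistAt 𝒜 n x.1) : Twist.Loc 𝒜 x.1)) (twist_local_rep σ)

theorem val_twistToTilde {n : ℤ} {U : Opens (ProjectiveSpectrum.top 𝒜)} (σ : Twist.sectN (𝒜 := 𝒜) n (op U))
    (x : U) : val (twistToTilde σ) x = ((σ.1 x : Twist.twistAt 𝒜 n x.1) : Twist.Loc 𝒜 x.1) := rfl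

theorem twistToTilde_injective {n : ℤ} {U : Opens (ProjectiveSpectrum.top 𝒜)} :
    Function.Injective (twistToTilde (𝒜 := 𝒜) (n := n) (U := U)) := fun σ τ h =>
  Subtype.ext (funext fun x => Subtype.ext
    (((val_twistToTilde σ x).symm.trans (congrArg (fun ρ => val ρ x) h)).trans (val_twistToTilde τ x)))

theorem mem_twistAt_of_mem {n : ℤ} {x : ProjectiveSpectrum 𝒜} {q : GrTilde.LocMod 𝒜 (M := A) x}
    (hq : q ∈ GrTilde.tildeAt 𝒜 𝒜 n x) : (q : Twist.Loc 𝒜 x) ∈ Twist.twistAt 𝒜 n x := by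
  obtain ⟨j, s, a, hsx, hs, ha, rfl⟩ := exists_frac hq
  rcases ha with ⟨i, hi, ha⟩ | rfl
  · exact Submodule.subset_span ⟨i, j, ⟨a, ha⟩, ⟨s, hs⟩, hsx, hi, rfl⟩
  · simp

theorem twistToTilde_surjective {n : ℤ} {U : Opens (ProjectiveSpectrum.top 𝒜)} :
    Function.Surjective (twistToTilde (𝒜 := 𝒜) (n := n) (U := U)) := fun τ => by
  refine ⟨⟨fun x => ⟨val τ x, mem_twistAt_of_mem (τ.1 x).2⟩, fun x => ?_⟩, sect_ext fun x => rfl⟩
  obtain ⟨j, s, a, hs, ha, hsx, hv⟩ := exists_local_rep τ x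
  obtain ⟨i, hi, hij⟩ := ha.exists_mem
  exact ⟨ProjectiveSpectrum.basicOpen 𝒜 s ⊓ U, ⟨hsx, x.2⟩, Opens.infLERight _ _, i, j, ⟨a, hi⟩, ⟨s, hs⟩,
    fun y => y.2.1, hij, fun y => hv ⟨y.1, y.2.2⟩ y.2.1⟩

theorem twist_add_val {n : ℤ} {U : Opens (ProjectiveSpectrum.top 𝒜)} (σ τ : Twist.sectN (𝒜 := 𝒜) n (op U))
    (x : U) : val (twistToTilde (σ + τ)) x = val (twistToTilde σ + twistToTilde τ) x := by
  refine Eq.trans ?_ (val_add _ _ x).symm
  rw [val_twistToTilde, val_twistToTilde, val_twistToTilde, Submodule.coe_add, Pi.add_apply,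
    Submodule.coe_add]

/-- `twistToTilde` as an additive equivalence. -/
def twistEquiv {n : ℤ} (U : Opens (ProjectiveSpectrum.top 𝒜)) :
    Twist.sectN (𝒜 := 𝒜) n (op U) ≃+ GrTilde.sect 𝒜 𝒜 n (op U) :=
  { Equiv.ofBijective twistToTilde ⟨twistToTilde_injective, twistToTilde_surjective⟩ with
    map_add' := fun σ τ => sect_ext fun x => twist_add_val σ τ x }

/-- `O(n)` is `A(n)~`. -/
def twistIsoTilde (n : ℤ) : Twist.twist 𝒜 n ≅ GrTilde.tilde 𝒜 𝒜 n :=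
  isoMk (fun U => twistEquiv U)
    (fun U r σ => sect_ext fun x => Twist.coe_smul_val n x.1 (r.1 x) (σ.1 x))
    (fun U V h σ => sect_ext fun x => rfl)

/-- The section of `A(0)~` given by a function. -/
def ofFun {U : Opens (ProjectiveSpectrum.top 𝒜)} (r : Twist.O (𝒜 := 𝒜) (op U)) :
    GrTilde.sect 𝒜 𝒜 0 (op U) :=
  secOfRep (fun x => (r.1 x).val) fun x => by
    obtain ⟨V, hxV, iV, j, ⟨a, ha⟩, ⟨t, ht⟩, hnin, hw⟩ := r.2 x
    obtain ⟨k, h, hk, hxh, hhV⟩ := exists_homog_basicOpen_le V x.1 hxV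
    refine ⟨k + j, h * t, h • a, SetLike.mul_mem_graded hk ht,
      ((Deg.of_mem (ℳ := 𝒜) (k := (j : ℤ)) ha (Or.inl rfl)).smul hk).congr (by push_cast; ring),
      fun hh => (x.1.isPrime.mem_or_mem hh).elim hxh (hnin ⟨x.1, hxV⟩), fun y hy => ?_⟩
    have hyV : y.1 ∈ V := hhV fun hh => hy (Ideal.mul_mem_right t _ hh)
    exact (congrArg HomogeneousLocalization.val (hw ⟨y.1, hyV⟩)).trans
      (mk_smul_den (hnin ⟨y.1, hyV⟩) hy).symm

theorem ofFun_injective {U : Opens (ProjectiveSpectrum.top 𝒜)} :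
    Function.Injective (ofFun (𝒜 := 𝒜) (U := U)) := fun r s h =>
  Subtype.ext (funext fun x => HomogeneousLocalization.val_injective _ (congrArg (fun σ => val σ x) h))

theorem ofFun_surjective {U : Opens (ProjectiveSpectrum.top 𝒜)} :
    Function.Surjective (ofFun (𝒜 := 𝒜) (U := U)) := fun σ => by
  choose j s a hs ha hsx hv using exists_local_rep σ
  have hmem : ∀ x, a x ∈ 𝒜 (j x) := fun x => by
    rcases ha x with ⟨i, hi, hi'⟩ | hz
    · obtain rfl : i = j x := by omega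
      exact hi'
    · rw [hz]; exact zero_mem _
  let c : ∀ x : U, Twist.A0 𝒜 x.1 := fun x =>
    .mk ⟨j x, ⟨a x, hmem x⟩, ⟨s x, hs x⟩, hsx x⟩
  refine ⟨⟨c, fun x => ⟨ProjectiveSpectrum.basicOpen 𝒜 (s x) ⊓ U, ⟨hsx x, x.2⟩, Opens.infLERight _ _,
    j x, ⟨a x, hmem x⟩, ⟨s x, hs x⟩, fun y => y.2.1, fun y => HomogeneousLocalization.val_injective _ ?_⟩⟩,
    sect_ext fun x => (hv x x (hsx x)).symm⟩
  exact (hv ⟨y.1, y.2.2⟩ _ (hsx _)).symm.trans (hv x ⟨y.1, y.2.2⟩ y.2.1)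

/-- `A(0)~` is the structure sheaf. -/
def unitIsoTilde : Coh.structureModule (Proj 𝒜) ≅ GrTilde.tilde 𝒜 𝒜 0 :=
  isoMk (fun U =>
    AddEquiv.ofBijective
      (({ toFun := ofFun
          map_zero' := sect_ext fun x => HomogeneousLocalization.val_zero
          map_add' := fun r s => sect_ext fun x => HomogeneousLocalization.val_add _ _ } :
        Twist.O (𝒜 := 𝒜) (op U) →+ GrTilde.sect 𝒜 𝒜 0 (op U)))
      ⟨ofFun_injective, ofFun_surjective⟩)
    (fun U r s => sect_ext fun x => HomogeneousLocalization.val_mul _ _)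
    (fun U V h r => sect_ext fun x => rfl)

/-- `O(n)` is trivial where a fraction `c / e` of degree `n` is a unit. -/
theorem twist_restrict_iso_unit {p q : ℕ} {c e : A} (hc : c ∈ 𝒜 p) (he : e ∈ 𝒜 q) {n : ℤ}
    (hn : (p : ℤ) = q + n) {U : (Proj 𝒜).Opens} (hU : U ≤ Proj.basicOpen 𝒜 (c * e)) :
    Nonempty ((Twist.twist 𝒜 n).restrict U.ι ≅ Coh.structureModule (U : Scheme.{u})) :=
  ⟨(Scheme.Modules.restrictFunctor U.ι).mapIso (twistIsoTilde n) ≪≫
    (mulIso (n := 0) (n' := n) hc he (by omega) hU).symm ≪≫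
    (Scheme.Modules.restrictFunctor U.ι).mapIso unitIsoTilde.symm ≪≫
    Scheme.Modules.restrictUnitIso U.ι⟩

end Self

end Groth.Agent.Lib.ProjTilde.Basic
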