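import Groth.Agent.Lib.ProjTilde.QCoh
import Groth.Agent.Lib.ProjTilde.Invertible
import Groth.Agent.Lib.Ample.Pow

/-!
# `O(1)` is ample when `A₊` has finitely many generators of degree one
-/

noncomputable section

universe u

open CategoryTheory AlgebraicGeometry TopologicalSpace Opposite

namespace Groth.Agent.Lib.ProjTilde.Ample

open Groth.Agent.Lib.ProjTilde.Frac Groth.Agent.Lib.ProjTilde.Basic Groth.Agent.Lib.ProjTilde.QCoh
open Groth.Agent.Lib.TensorMod.Dual (rs rs_rs rs_self)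
open Groth.Agent.Lib.TensorMod.Gen

variable {R A : Type u} [CommRing R] [CommRing A] [Algebra R A] {𝒜 : ℕ → Submodule R A} [GradedAlgebra 𝒜]

/-- `g / 1` as a global section of `O(1)`. -/
abbrev deg1Sec {g : A} (hg : g ∈ 𝒜 1) : Γ(Twist.twist 𝒜 1, ⊤) := Twist.globalOf 𝒜 (⟨g, hg⟩ : 𝒜 1)

theorem val_smul_deg1Sec {g : A} (hg : g ∈ 𝒜 1) {V : (Proj 𝒜).Opens} (a : Γ(Proj 𝒜, V))
    (x : (V : Opens (ProjectiveSpectrum.top 𝒜))) (h1 : (1 : A) ∉ x.1.asHomogeneousIdeal) :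
    (((a • rs (Twist.twist 𝒜 1) le_top (deg1Sec hg) : Γ(Twist.twist 𝒜 1, V)) :
        Twist.sectN (𝒜 := 𝒜) 1 (op V)).1 x : Twist.Loc 𝒜 x.1) =
      ((a : Twist.O (𝒜 := 𝒜) (op V)).1 x).val * Localization.mk g ⟨1, h1⟩ :=
  Twist.coe_smul_val 1 x.1 _ _

theorem isGen_deg1Sec {g : A} (hg : g ∈ 𝒜 1) :
    IsGen (Twist.twist 𝒜 1) (Proj.basicOpen 𝒜 g) (rs (Twist.twist 𝒜 1) le_top (deg1Sec hg)) := by
  intro V hV
  have hW : V ≤ Proj.basicOpen 𝒜 (1 * g) := by rwa [one_mul]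
  have hc0 : (1 : A) ∈ 𝒜 0 := SetLike.GradedOne.one_mem
  have hn0 : (0 : ℤ) + ((1 : ℕ) : ℤ) = 1 + ((0 : ℕ) : ℤ) := by norm_num
  let Φ : Twist.sectN (𝒜 := 𝒜) 1 (op V) ≃+ GrTilde.sect 𝒜 𝒜 0 (op V) :=
    (twistEquiv V).trans (mulEquiv (ℳ := 𝒜) (n := 1) (n' := 0) (p := 0) (q := 1) (c := 1) (e := g)
      hc0 hg hn0 hW)
  have hΦ : (fun a : Γ(Proj 𝒜, V) => a • rs (Twist.twist 𝒜 1) hV (rs (Twist.twist 𝒜 1) le_top (deg1Sec hg))) =
      Φ.symm ∘ ofFun (𝒜 := 𝒜) (U := V) := by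
    funext a
    rw [Function.comp_apply, rs_rs]
    refine ((AddEquiv.symm_apply_eq Φ).2 (sect_ext fun x => ?_)).symm
    have h1 : (1 : A) ∉ x.1.asHomogeneousIdeal := fun h => x.1.isPrime.ne_top ((Ideal.eq_top_iff_one _).mpr h)
    have hgx : g ∉ x.1.asHomogeneousIdeal := fun h => hV x.2 h
    refine Eq.symm ((val_mulSec hc0 hg hn0 hW _ x).trans ?_)
    refine (congrArg (unitAt x.1 1 g hgx • ·) ((val_twistToTilde _ x).trans (val_smul_deg1Sec hg a x h1))).trans ?_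
    change unitAt x.1 1 g hgx * (((a : Twist.O (𝒜 := 𝒜) (op V)).1 x).val * Localization.mk g ⟨1, h1⟩) =
      ((a : Twist.O (𝒜 := 𝒜) (op V)).1 x).val
    rw [mul_left_comm, unitAt, unitAt_mul_unitAt x.1 h1 hgx |> fun h => (mul_comm _ _).trans h, mul_one]
  rw [hΦ]
  exact Φ.symm.bijective.comp ⟨ofFun_injective, ofFun_surjective⟩

/-- The locus of `f / 1` is `D₊(f)`. -/
theorem genLocus_deg1 (hcov : ∀ x : ProjectiveSpectrum 𝒜, ∃ g ∈ 𝒜 1, g ∉ x.asHomogeneousIdeal)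
    {f : A} (hf : f ∈ 𝒜 1) (s : Coh.structureModule (Proj 𝒜) ⟶ Twist.twist 𝒜 1)
    (hs : Ample.GenLocus.sv s ⊤ = deg1Sec hf) :
    CohB1.genLocus _ s = Proj.basicOpen 𝒜 f := by
  have key : ∀ (g : A) (hg : g ∈ 𝒜 1), CohB1.genLocus _ s ⊓ Proj.basicOpen 𝒜 g = Proj.basicOpen 𝒜 (g * f) := by
    intro g hg
    have hh : f ∈ 𝒜 (1 • 1) := by rwa [one_smul]
    rw [← basicOpen_awayToSection hg 1 f hh]
    refine Lib.Ample.GenLocus.genLocus_inf_eq (isGen_deg1Sec hg) s ?_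
    rw [← Lib.Ample.GenLocus.rs_sv s (le_top : Proj.basicOpen 𝒜 g ≤ ⊤), hs]
    refine Subtype.ext (funext fun x => Subtype.ext ?_)
    have h1 : (1 : A) ∉ x.1.asHomogeneousIdeal := fun h => x.1.isPrime.ne_top ((Ideal.eq_top_iff_one _).mpr h)
    have hgx : g ^ 1 ∉ x.1.asHomogeneousIdeal := by rw [pow_one]; exact x.2
    refine Eq.trans ?_ ((congrArg (· * Localization.mk g ⟨1, h1⟩)
      (val_awayToSection hg 1 f hh x hgx)).symm.trans (val_smul_deg1Sec hg _ x h1).symm)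
    change (Localization.mk f _ : Twist.Loc 𝒜 x.1) = _
    rw [Localization.mk_mul, Localization.mk_eq_mk_iff, Localization.r_iff_exists]
    exact ⟨1, by simp [mul_comm]⟩
  apply Opens.ext
  apply Set.ext
  intro x
  obtain ⟨g, hg, hgx⟩ := hcov x
  have h := SetLike.ext_iff.1 (key g hg) x
  rw [Opens.mem_inf, Proj.mem_basicOpen, Proj.mem_basicOpen] at h
  rw [SetLike.mem_coe, SetLike.mem_coe, Proj.mem_basicOpen]
  exact ⟨fun hx hfx => h.1 ⟨hx, hgx⟩ (Ideal.mul_mem_left _ g hfx),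
    fun hfx => (h.2 fun hh => (x.isPrime.mem_or_mem hh).elim hgx hfx).1⟩

theorem isAmple_twist_one (s : Finset A) (hs1 : ∀ f ∈ s, f ∈ 𝒜 1)
    (hs : (HomogeneousIdeal.irrelevant 𝒜).toIdeal = Ideal.span (s : Set A)) :
    CohB1.IsAmple (Twist.twist 𝒜 1) := by
  have hcov : ∀ x : ProjectiveSpectrum 𝒜, ∃ f ∈ s, f ∉ x.asHomogeneousIdeal := fun x => by
    by_contra h
    push Not at h
    refine x.not_irrelevant_le ?_
    change (HomogeneousIdeal.irrelevant 𝒜).toIdeal ≤ x.asHomogeneousIdeal.toIdeal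
    rw [hs, Ideal.span_le]
    exact h
  have hcov1 : ∀ x : ProjectiveSpectrum 𝒜, ∃ g ∈ 𝒜 1, g ∉ x.asHomogeneousIdeal := fun x => by
    obtain ⟨f, hf, hfx⟩ := hcov x
    exact ⟨f, hs1 f hf, hfx⟩
  refine Lib.Ample.Pow.isAmple_iff.2 ⟨Invertible.twist_isInvertible_of_cover hcov1 1, ⟨?_⟩, fun x => ?_⟩
  · have h : (Set.univ : Set (Proj 𝒜)) = ⋃ f ∈ s, (Proj.basicOpen 𝒜 f : Set (Proj 𝒜)) :=
      (Set.eq_univ_of_forall fun x => by
        obtain ⟨f, hf, hfx⟩ := hcov x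
        exact Set.mem_iUnion₂.2 ⟨f, hf, hfx⟩).symm
    rw [h]
    exact s.isCompact_biUnion fun f hf => (Proj.isAffineOpen_basicOpen 𝒜 f (hs1 f hf) one_pos).isCompact
  · obtain ⟨f, hf, hfx⟩ := hcov x
    obtain ⟨σ, hσ⟩ := Lib.Ample.GenLocus.exists_hom_of_sec (deg1Sec (hs1 f hf))
    have hloc := genLocus_deg1 hcov1 (hs1 f hf) σ hσ
    refine .mk one_pos (Lib.Ample.Pow.powOne _).symm σ ?_ ?_
    · rw [hloc]; exact hfx
    · rw [hloc]; exact Proj.isAffineOpen_basicOpen 𝒜 f (hs1 f hf) one_pos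

end Groth.Agent.Lib.ProjTilde.Ample
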