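import Groth.Prelude.Def_GrMod2
import Mathlib.RingTheory.GradedAlgebra.Radical
import Mathlib.AlgebraicGeometry.ProjectiveSpectrum.Proper
import Mathlib.Algebra.Module.Torsion.Basic

set_option linter.unusedSectionVars false
set_option linter.deprecated false

/-!
# Fractions, stalks and sections on `D₊(f)` of `M(n)~`
-/

noncomputable section

universe u

open CategoryTheory AlgebraicGeometry TopologicalSpace Opposite DirectSum

namespace Groth.Agent.Lib.ProjTilde.Frac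

variable {R A : Type u} [CommRing R] [CommRing A] [Algebra R A] {𝒜 : ℕ → Submodule R A} [GradedAlgebra 𝒜]

/-- A homogeneous element of `f : A` outside the homogeneous core of a prime is outside the prime. -/
theorem homog_notMem_of_notMem_core {p : Ideal A} {i : ℕ} {a : A} (ha : a ∈ 𝒜 i)
    (h : a ∉ (p.homogeneousCore 𝒜).toIdeal) : a ∉ p := fun hp =>
  h (Ideal.mem_homogeneousCore_of_homogeneous_of_mem ⟨i, ha⟩ hp)

/-- A prime avoiding `f` (homogeneous of positive degree) gives a point of `D₊(f)`. -/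
def corePoint {d : ℕ} {f : A} (hd : 0 < d) (hf : f ∈ 𝒜 d) (p : Ideal A) (hp : p.IsPrime)
    (hfp : f ∉ p) : ProjectiveSpectrum.basicOpen 𝒜 f :=
  ⟨⟨p.homogeneousCore 𝒜, hp.homogeneousCore, fun h =>
      hfp (Ideal.toIdeal_homogeneousCore_le 𝒜 p (h (HomogeneousIdeal.mem_irrelevant_of_mem _ hd hf)))⟩,
    (ProjectiveSpectrum.mem_basicOpen 𝒜 f _).mpr fun h =>
      hfp (Ideal.toIdeal_homogeneousCore_le 𝒜 p h)⟩

@[simp] theorem corePoint_asHomogeneousIdeal {d : ℕ} {f : A} (hd : 0 < d) (hf : f ∈ 𝒜 d) (p : Ideal A)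
    (hp : p.IsPrime) (hfp : f ∉ p) :
    (corePoint hd hf p hp hfp).1.asHomogeneousIdeal = p.homogeneousCore 𝒜 := rfl

/-- If the `D₊(g a)` cover `D₊(f)`, then a power of `f` lies in the ideal generated by the `g a`. -/
theorem exists_pow_mem_span {d : ℕ} {f : A} (hd : 0 < d) (hf : f ∈ 𝒜 d) {ι : Type*} (g : ι → A)
    (hg : ∀ a, SetLike.IsHomogeneousElem 𝒜 (g a))
    (hcov : ProjectiveSpectrum.basicOpen 𝒜 f ≤ ⨆ a, ProjectiveSpectrum.basicOpen 𝒜 (g a)) :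
    ∃ k : ℕ, f ^ k ∈ Ideal.span (Set.range g) := by
  change f ∈ (Ideal.span (Set.range g)).radical
  rw [Ideal.radical_eq_sInf, Submodule.mem_sInf]
  intro p hp
  obtain ⟨hle, hprime⟩ := hp
  by_contra hfp
  obtain ⟨a, ha⟩ := Opens.mem_iSup.mp (hcov (corePoint hd hf p hprime hfp).2)
  rw [ProjectiveSpectrum.mem_basicOpen] at ha
  exact ha (Ideal.mem_homogeneousCore_of_homogeneous_of_mem (hg a) (hle (Ideal.subset_span ⟨a, rfl⟩)))

/-- The `D₊(h)`, `h` homogeneous, form a basis of the topology of `Proj`. -/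
theorem exists_homog_basicOpen_le (U : Opens (ProjectiveSpectrum.top 𝒜)) (x : ProjectiveSpectrum 𝒜)
    (hx : x ∈ U) : ∃ (e : ℕ) (h : A), h ∈ 𝒜 e ∧ h ∉ x.asHomogeneousIdeal ∧
      ProjectiveSpectrum.basicOpen 𝒜 h ≤ U := by
  obtain ⟨_, ⟨g, rfl⟩, hxg, hgU⟩ :=
    (ProjectiveSpectrum.isTopologicalBasis_basic_opens 𝒜).exists_subset_of_mem_open
      (a := x) (SetLike.mem_coe.mpr hx) U.isOpen
  have hxg' : x ∈ ProjectiveSpectrum.basicOpen 𝒜 g := hxg
  rw [ProjectiveSpectrum.basicOpen_eq_union_of_projection] at hxg'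
  obtain ⟨e, he⟩ := Opens.mem_iSup.mp hxg'
  refine ⟨e, GradedRing.proj 𝒜 e g, by simp [GradedRing.proj_apply], he, le_trans ?_ hgU⟩
  rw [ProjectiveSpectrum.basicOpen_eq_union_of_projection 𝒜 g]
  exact le_iSup (fun i => ProjectiveSpectrum.basicOpen 𝒜 (GradedRing.proj 𝒜 i g)) e

section Module

variable {M : Type u} [AddCommGroup M] [Module R M] [Module A M] {ℳ : ℕ → Submodule R M}
variable [SetLike.GradedSMul 𝒜 ℳ] [DirectSum.Decomposition ℳ]

theorem smul_mem_of_mem {i j : ℕ} {a : A} {m : M} (ha : a ∈ 𝒜 i) (hm : m ∈ ℳ j) : a • m ∈ ℳ (i + j) :=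
  SetLike.GradedSMul.smul_mem ha hm

theorem decompose_smul_coe (u : A) {i : ℕ} {m : M} (hm : m ∈ ℳ i)
    (k : ℕ) : (decompose ℳ (u • m) (k + i) : M) = (decompose 𝒜 u k : A) • m := by
  classical
  conv_lhs => rw [← sum_support_decompose 𝒜 u, Finset.sum_smul]
  rw [decompose_sum, DFinsupp.finset_sum_apply, AddSubmonoidClass.coe_finset_sum, Finset.sum_eq_single k]
  · exact decompose_of_mem_same ℳ (smul_mem_of_mem (SetLike.coe_mem _) hm)
  · intro j _ hj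
    exact decompose_of_mem_ne ℳ (smul_mem_of_mem (SetLike.coe_mem _) hm)
      (fun e => hj (Nat.add_right_cancel e))
  · intro hk
    rw [DFinsupp.notMem_support_iff.mp hk]
    simp

/-- If an element outside the homogeneous prime `x` kills the homogeneous `m`, a homogeneous one does. -/
theorem exists_homog_smul_eq_zero {x : ProjectiveSpectrum 𝒜} {i : ℕ} {m : M} (hm : m ∈ ℳ i) {u : A}
    (hu : u ∉ x.asHomogeneousIdeal) (h : u • m = 0) :
    ∃ (k : ℕ) (v : A), v ∈ 𝒜 k ∧ v ∉ x.asHomogeneousIdeal ∧ v • m = 0 := by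
  classical
  obtain ⟨k, hk⟩ : ∃ k, (decompose 𝒜 u k : A) ∉ x.asHomogeneousIdeal := by
    by_contra h'
    push Not at h'
    apply hu
    rw [← sum_support_decompose 𝒜 u]
    exact Ideal.sum_mem _ fun i _ => h' i
  refine ⟨k, _, SetLike.coe_mem _, hk, ?_⟩
  rw [← decompose_smul_coe u hm k, h]
  simp

theorem mk_eq_zero_iff {x : ProjectiveSpectrum 𝒜} {i : ℕ} {m : M} (hm : m ∈ ℳ i)
    {s : x.asHomogeneousIdeal.toIdeal.primeCompl} :
    (LocalizedModule.mk m s : GrTilde.LocMod 𝒜 (M := M) x) = 0 ↔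
      ∃ (k : ℕ) (v : A), v ∈ 𝒜 k ∧ v ∉ x.asHomogeneousIdeal ∧ v • m = 0 := by
  rw [← LocalizedModule.zero_mk s, LocalizedModule.mk_eq]
  constructor
  · rintro ⟨u, hu⟩
    simp only [smul_zero, Submonoid.smul_def, smul_smul] at hu
    exact exists_homog_smul_eq_zero hm
      (fun h => (x.isPrime.mem_or_mem h).elim u.2 s.2) hu
  · rintro ⟨k, v, _, hv, hvm⟩
    refine ⟨⟨v, hv⟩, ?_⟩
    simp only [Submonoid.smul_def, smul_zero]
    rw [smul_comm, hvm, smul_zero]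

/-- If `m / 1` vanishes at every point of `D₊(f)` then a power of `f` kills `m`. -/
theorem exists_pow_smul_eq_zero {d : ℕ} {f : A} (hd : 0 < d) (hf : f ∈ 𝒜 d) {m : M}
    (h : ∀ x : ProjectiveSpectrum.basicOpen 𝒜 f, ∃ (k : ℕ) (v : A), v ∈ 𝒜 k ∧ v ∉ x.1.asHomogeneousIdeal ∧ v • m = 0) :
    ∃ N : ℕ, f ^ N • m = 0 := by
  suffices f ∈ (Ideal.torsionOf A M m).radical by
    obtain ⟨N, hN⟩ := this
    exact ⟨N, (Ideal.mem_torsionOf_iff _ _).mp hN⟩
  rw [Ideal.radical_eq_sInf, Submodule.mem_sInf]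
  rintro p ⟨hle, hprime⟩
  by_contra hfp
  obtain ⟨k, v, hvk, hv, hvm⟩ := h (corePoint hd hf p hprime hfp)
  exact homog_notMem_of_notMem_core hvk hv (hle ((Ideal.mem_torsionOf_iff _ _).mpr hvm))

variable (ℳ) in
/-- `m` is homogeneous of (possibly negative) degree `k`: in negative degrees only `0`. -/
def Deg (k : ℤ) (m : M) : Prop := (∃ i : ℕ, (i : ℤ) = k ∧ m ∈ ℳ i) ∨ m = 0

theorem Deg.exists_mem {k : ℤ} {m : M} (h : Deg ℳ k m) : ∃ i : ℕ, m ∈ ℳ i ∧ ((i : ℤ) = k ∨ m = 0) := by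
  rcases h with ⟨i, hi, hm⟩ | rfl
  · exact ⟨i, hm, Or.inl hi⟩
  · exact ⟨0, zero_mem _, Or.inr rfl⟩

theorem Deg.of_mem {i : ℕ} {k : ℤ} {m : M} (hm : m ∈ ℳ i) (h : (i : ℤ) = k ∨ m = 0) : Deg ℳ k m :=
  h.elim (fun hi => Or.inl ⟨i, hi, hm⟩) Or.inr

theorem Deg.zero (k : ℤ) : Deg ℳ k 0 := Or.inr rfl

theorem Deg.congr {k l : ℤ} {m : M} (h : Deg ℳ k m) (e : k = l) : Deg ℳ l m := e ▸ h

theorem Deg.add {k : ℤ} {a b : M} (ha : Deg ℳ k a) (hb : Deg ℳ k b) : Deg ℳ k (a + b) := by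
  rcases ha with ⟨i, hi, ha⟩ | rfl
  · rcases hb with ⟨j, hj, hb⟩ | rfl
    · obtain rfl : i = j := by omega
      exact Or.inl ⟨i, hi, add_mem ha hb⟩
    · rw [add_zero]; exact Or.inl ⟨i, hi, ha⟩
  · simpa using hb

theorem Deg.sum {ι : Type*} {k : ℤ} {t : Finset ι} {a : ι → M} (h : ∀ i ∈ t, Deg ℳ k (a i)) :
    Deg ℳ k (∑ i ∈ t, a i) :=
  Finset.sum_induction a (Deg ℳ k) (fun _ _ => Deg.add) (Deg.zero k) h

theorem Deg.neg {k : ℤ} {a : M} (ha : Deg ℳ k a) : Deg ℳ k (-a) := by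
  rcases ha with ⟨i, hi, ha⟩ | rfl
  · exact Or.inl ⟨i, hi, neg_mem ha⟩
  · simpa using Deg.zero k

theorem Deg.sub {k : ℤ} {a b : M} (ha : Deg ℳ k a) (hb : Deg ℳ k b) : Deg ℳ k (a - b) :=
  sub_eq_add_neg a b ▸ ha.add hb.neg

theorem Deg.smul {k : ℤ} {j : ℕ} {s : A} {a : M} (hs : s ∈ 𝒜 j) (ha : Deg ℳ k a) :
    Deg ℳ (j + k) (s • a) := by
  rcases ha with ⟨i, hi, ha⟩ | rfl
  · exact Or.inl ⟨j + i, by omega, smul_mem_of_mem hs ha⟩
  · simpa using Deg.zero _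

/-- Equality of two fractions of degree `n` at a point, with a homogeneous witness. -/
theorem mk_eq_mk_iff {x : ProjectiveSpectrum 𝒜} {n : ℤ} {j l : ℕ} {s t : A} {a b : M} (hs : s ∈ 𝒜 j)
    (ht : t ∈ 𝒜 l) (hsx : s ∉ x.asHomogeneousIdeal) (htx : t ∉ x.asHomogeneousIdeal)
    (ha : Deg ℳ (j + n) a) (hb : Deg ℳ (l + n) b) :
    (LocalizedModule.mk a ⟨s, hsx⟩ : GrTilde.LocMod 𝒜 (M := M) x) = LocalizedModule.mk b ⟨t, htx⟩ ↔
      ∃ (k : ℕ) (v : A), v ∈ 𝒜 k ∧ v ∉ x.asHomogeneousIdeal ∧ v • (t • a - s • b) = 0 := by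
  obtain ⟨i, hi, -⟩ := Deg.exists_mem
    ((ha.smul ht).sub ((hb.smul hs).congr (by ring : (j : ℤ) + (l + n) = l + (j + n))))
  rw [LocalizedModule.mk_eq]
  constructor
  · rintro ⟨u, hu⟩
    refine exists_homog_smul_eq_zero hi u.2 ?_
    simp only [Submonoid.smul_def] at hu
    rw [smul_sub, hu, sub_self]
  · rintro ⟨k, v, -, hv, h⟩
    refine ⟨⟨v, hv⟩, ?_⟩
    simp only [Submonoid.smul_def]
    rwa [smul_sub, sub_eq_zero] at h

theorem mk_smul_den {x : ProjectiveSpectrum 𝒜} {a : M} {s c : A} (hs : s ∉ x.asHomogeneousIdeal)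
    (hcs : c * s ∉ x.asHomogeneousIdeal) :
    (LocalizedModule.mk (c • a) ⟨c * s, hcs⟩ : GrTilde.LocMod 𝒜 (M := M) x) =
      LocalizedModule.mk a ⟨s, hs⟩ := by
  rw [LocalizedModule.mk_eq]
  refine ⟨1, ?_⟩
  simp only [one_smul, Submonoid.smul_def]
  rw [smul_smul, mul_comm]

theorem frac_mem_tildeAt {x : ProjectiveSpectrum 𝒜} {n : ℤ} {j : ℕ} {s : A} {a : M} (hs : s ∈ 𝒜 j)
    (hsx : s ∉ x.asHomogeneousIdeal) (ha : Deg ℳ (j + n) a) :
    (LocalizedModule.mk a ⟨s, hsx⟩ : GrTilde.LocMod 𝒜 (M := M) x) ∈ GrTilde.tildeAt 𝒜 ℳ n x := by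
  rcases ha with ⟨i, hi, ha⟩ | rfl
  · exact Submodule.subset_span ⟨i, j, ⟨a, ha⟩, ⟨s, hs⟩, hsx, hi, rfl⟩
  · simp

/-- Every element of `tildeAt` is a fraction. -/
theorem exists_frac {x : ProjectiveSpectrum 𝒜} {n : ℤ} {q : GrTilde.LocMod 𝒜 (M := M) x}
    (hq : q ∈ GrTilde.tildeAt 𝒜 ℳ n x) :
    ∃ (j : ℕ) (s : A) (a : M) (hsx : s ∉ x.asHomogeneousIdeal),
      s ∈ 𝒜 j ∧ Deg ℳ (j + n) a ∧ q = LocalizedModule.mk a ⟨s, hsx⟩ := by
  induction hq using Submodule.span_induction with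
  | mem q h =>
    obtain ⟨i, j, a, s, hs, hij, rfl⟩ := h
    exact ⟨j, s.1, a.1, hs, s.2, Deg.of_mem a.2 (Or.inl hij), rfl⟩
  | zero =>
    exact ⟨0, 1, 0, fun h => x.isPrime.ne_top ((Ideal.eq_top_iff_one _).mpr h), SetLike.GradedOne.one_mem,
      Deg.zero _, by simp⟩
  | add q q' _ _ h h' =>
    obtain ⟨j, s, a, hsx, hs, ha, rfl⟩ := h
    obtain ⟨l, t, b, htx, ht, hb, rfl⟩ := h'
    refine ⟨j + l, s * t, t • a + s • b, fun h => (x.isPrime.mem_or_mem h).elim hsx htx,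
      SetLike.mul_mem_graded hs ht,
      ((ha.smul ht).congr (by push_cast; ring)).add ((hb.smul hs).congr (by push_cast; ring)), ?_⟩
    rw [LocalizedModule.mk_add_mk]
    rfl
  | smul c q _ h =>
    obtain ⟨j, s, a, hsx, hs, ha, rfl⟩ := h
    obtain ⟨c, rfl⟩ := HomogeneousLocalization.mk_surjective c
    refine ⟨c.deg + j, c.den * s, (c.num : A) • a, fun h => (x.isPrime.mem_or_mem h).elim c.den_mem hsx,
      SetLike.mul_mem_graded c.den.2 hs, (ha.smul c.num.2).congr (by push_cast; ring), ?_⟩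
    rw [GrTilde.a0_smul_def, HomogeneousLocalization.val_mk, LocalizedModule.mk_smul_mk]
    rfl

/-- The value of a section at a point, in the localized module. -/
abbrev val {n : ℤ} {U : Opens (ProjectiveSpectrum.top 𝒜)} (σ : GrTilde.sect 𝒜 ℳ n (op U)) (x : U) :
    GrTilde.LocMod 𝒜 (M := M) x.1 :=
  ((σ.1 x : GrTilde.tildeAt 𝒜 ℳ n x.1) : GrTilde.LocMod 𝒜 (M := M) x.1)

theorem sect_ext {n : ℤ} {U : Opens (ProjectiveSpectrum.top 𝒜)} {σ τ : GrTilde.sect 𝒜 ℳ n (op U)}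
    (h : ∀ x : U, val σ x = val τ x) : σ = τ :=
  Subtype.ext (funext fun x => Subtype.ext (h x))

theorem val_res {n : ℤ} {U V : Opens (ProjectiveSpectrum.top 𝒜)} (i : V ⟶ U)
    (σ : GrTilde.sect 𝒜 ℳ n (op U)) (x : V) :
    val (GrTilde.res 𝒜 ℳ n i.op σ) x = val σ (i x) := rfl

/-- The section `a / s` on an open where `s` does not vanish. -/
def fracSec {n : ℤ} (U : Opens (ProjectiveSpectrum.top 𝒜)) {j : ℕ} {s : A} {a : M} (hs : s ∈ 𝒜 j)
    (ha : Deg ℳ (j + n) a) (hU : U ≤ ProjectiveSpectrum.basicOpen 𝒜 s) : GrTilde.sect 𝒜 ℳ n (op U) :=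
  ⟨fun x => ⟨LocalizedModule.mk a ⟨s, (ProjectiveSpectrum.mem_basicOpen 𝒜 s x.1).mp (hU x.2)⟩,
      frac_mem_tildeAt hs _ ha⟩,
    fun x => by
      obtain ⟨i, hi, h⟩ := ha.exists_mem
      exact ⟨U, x.2, 𝟙 U, i, j, ⟨a, hi⟩, ⟨s, hs⟩,
        fun y => (ProjectiveSpectrum.mem_basicOpen 𝒜 s y.1).mp (hU y.2), h, fun _ => rfl⟩⟩

@[simp] theorem val_fracSec {n : ℤ} (U : Opens (ProjectiveSpectrum.top 𝒜)) {j : ℕ} {s : A} {a : M}
    (hs : s ∈ 𝒜 j) (ha : Deg ℳ (j + n) a) (hU : U ≤ ProjectiveSpectrum.basicOpen 𝒜 s) (x : U) :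
    val (fracSec U hs ha hU) x =
      LocalizedModule.mk a ⟨s, (ProjectiveSpectrum.mem_basicOpen 𝒜 s x.1).mp (hU x.2)⟩ := rfl

/-- Near each point a section is one fraction, on the whole non-vanishing locus of its denominator. -/
theorem exists_local_rep {n : ℤ} {U : Opens (ProjectiveSpectrum.top 𝒜)} (σ : GrTilde.sect 𝒜 ℳ n (op U))
    (x : U) : ∃ (j : ℕ) (s : A) (a : M), s ∈ 𝒜 j ∧ Deg ℳ (j + n) a ∧ s ∉ x.1.asHomogeneousIdeal ∧
      ∀ (y : U) (hy : s ∉ y.1.asHomogeneousIdeal), val σ y = LocalizedModule.mk a ⟨s, hy⟩ := by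
  obtain ⟨V, hxV, iV, i, j, ⟨a, ha⟩, ⟨t, ht⟩, hnin, hij, hw⟩ := σ.2 x
  obtain ⟨e, h, he, hxh, hhV⟩ := exists_homog_basicOpen_le V x.1 hxV
  refine ⟨e + j, h * t, h • a, SetLike.mul_mem_graded he ht,
    ((Deg.of_mem ha hij).smul he).congr (by push_cast; ring),
    fun hh => (x.1.isPrime.mem_or_mem hh).elim hxh (hnin ⟨x.1, hxV⟩), fun y hy => ?_⟩
  have hyV : y.1 ∈ V := hhV fun hh => hy (Ideal.mul_mem_right t _ hh)
  exact (hw ⟨y.1, hyV⟩).trans (mk_smul_den (hnin ⟨y.1, hyV⟩) hy).symm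

variable (𝒜 ℳ) in
theorem stalkToFiber_bijective (n : ℤ) (p : ProjectiveSpectrum 𝒜) :
    Function.Bijective (TopCat.stalkToFiber (GrTilde.isLocFrac 𝒜 ℳ n) p) := by
  refine ⟨TopCat.stalkToFiber_injective _ _ fun U V fU hU fV hV heq => ?_,
    TopCat.stalkToFiber_surjective _ _ fun q => ?_⟩
  · obtain ⟨j, s, a, hs, ha, hsp, hsU⟩ := exists_local_rep ⟨fU, hU⟩ ⟨p, U.2⟩
    obtain ⟨l, t, b, ht, hb, htp, htV⟩ := exists_local_rep ⟨fV, hV⟩ ⟨p, V.2⟩
    have h0 := (hsU ⟨p, U.2⟩ hsp).symm.trans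
      ((congrArg Subtype.val heq).trans (htV ⟨p, V.2⟩ htp))
    obtain ⟨k, v, hv, hvp, hv0⟩ := (mk_eq_mk_iff hs ht hsp htp ha hb).mp h0
    refine ⟨⟨U.1 ⊓ V.1 ⊓ ProjectiveSpectrum.basicOpen 𝒜 (s * t * v), ⟨⟨U.2, V.2⟩, ?_⟩⟩,
      homOfLE (fun y hy => hy.1.1), homOfLE (fun y hy => hy.1.2), fun w => ?_⟩
    · exact fun hh => (p.isPrime.mem_or_mem hh).elim
        (fun h => (p.isPrime.mem_or_mem h).elim hsp htp) hvp
    · have hw : s * t * v ∉ w.1.asHomogeneousIdeal := w.2.2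
      have hsw : s ∉ w.1.asHomogeneousIdeal := fun h => hw (Ideal.mul_mem_right v _ (Ideal.mul_mem_right t _ h))
      have htw : t ∉ w.1.asHomogeneousIdeal := fun h => hw (Ideal.mul_mem_right v _ (Ideal.mul_mem_left _ s h))
      have hvw : v ∉ w.1.asHomogeneousIdeal := fun h => hw (Ideal.mul_mem_left _ _ h)
      exact Subtype.ext ((hsU ⟨w.1, w.2.1.1⟩ hsw).trans
        (((mk_eq_mk_iff hs ht hsw htw ha hb).mpr ⟨k, v, hv, hvw, hv0⟩).trans
          (htV ⟨w.1, w.2.1.2⟩ htw).symm))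
  · obtain ⟨q, hq⟩ := q
    obtain ⟨j, s, a, hsx, hs, ha, rfl⟩ := exists_frac hq
    exact ⟨⟨ProjectiveSpectrum.basicOpen 𝒜 s, hsx⟩, _, (fracSec _ hs ha le_rfl).2, rfl⟩

/-- Sections over `D₊(f)` are single fractions `m / f^k`. -/
theorem exists_frac_basicOpen {n : ℤ} {d : ℕ} {f : A} (hd : 0 < d) (hf : f ∈ 𝒜 d)
    (σ : GrTilde.sect 𝒜 ℳ n (op (ProjectiveSpectrum.basicOpen 𝒜 f))) :
    ∃ (k i : ℕ) (m : M), m ∈ ℳ i ∧ (i : ℤ) = k * d + n ∧
      ∀ (x : ProjectiveSpectrum.basicOpen 𝒜 f) (hx : f ^ k ∉ x.1.asHomogeneousIdeal),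
        val σ x = LocalizedModule.mk m ⟨f ^ k, hx⟩ := by
  classical
  have key : ∀ x : ProjectiveSpectrum.basicOpen 𝒜 f, ∃ (e : ℕ) (g : A) (a : M), g ∈ 𝒜 (e * d) ∧
      Deg ℳ ((e * d : ℕ) + n) a ∧ x.1 ∈ ProjectiveSpectrum.basicOpen 𝒜 g ∧
      ∀ (y : ProjectiveSpectrum.basicOpen 𝒜 f) (hy : g ∉ y.1.asHomogeneousIdeal),
        val σ y = LocalizedModule.mk a ⟨g, hy⟩ := by
    intro x
    obtain ⟨j, s, a, hs, ha, hsx, hval⟩ := exists_local_rep σ x
    obtain ⟨c, rfl⟩ : ∃ c, d = c + 1 := ⟨d - 1, by omega⟩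
    have hsf : s * f ∈ 𝒜 (j + (c + 1)) := SetLike.mul_mem_graded hs hf
    have hc : (s * f) ^ c * f ∈ 𝒜 (c • (j + (c + 1)) + (c + 1)) :=
      SetLike.mul_mem_graded (SetLike.pow_mem_graded c hsf) hf
    refine ⟨j + (c + 1), (s * f) ^ c * f * s, ((s * f) ^ c * f) • a, ?_, ?_, ?_, fun y hy => ?_⟩
    · have h := SetLike.mul_mem_graded hc hs
      rwa [smul_eq_mul, show c * (j + (c + 1)) + (c + 1) + j = (j + (c + 1)) * (c + 1) by ring] at h
    · exact (ha.smul hc).congr (by push_cast [smul_eq_mul]; ring)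
    · rw [ProjectiveSpectrum.mem_basicOpen]
      intro hh
      rcases x.1.isPrime.mem_or_mem hh with hh | hh
      · rcases x.1.isPrime.mem_or_mem hh with hh | hh
        · exact (x.1.isPrime.mem_or_mem (x.1.isPrime.mem_of_pow_mem c hh)).elim hsx x.2
        · exact x.2 hh
      · exact hsx hh
    · have hsy : s ∉ y.1.asHomogeneousIdeal := fun h => hy (Ideal.mul_mem_left _ _ h)
      exact (hval y hsy).trans (mk_smul_den hsy hy).symm
  choose e g a hg ha hxg hval using key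
  have hcpt : IsCompact (ProjectiveSpectrum.basicOpen 𝒜 f : Set (ProjectiveSpectrum 𝒜)) :=
    (Proj.isAffineOpen_basicOpen 𝒜 f hf hd).isCompact
  obtain ⟨t, ht⟩ := hcpt.elim_finite_subcover
    (fun x => (ProjectiveSpectrum.basicOpen 𝒜 (g x) : Set (ProjectiveSpectrum 𝒜)))
    (fun x => (ProjectiveSpectrum.basicOpen 𝒜 (g x)).isOpen)
    (fun x hx => Set.mem_iUnion.mpr ⟨⟨x, hx⟩, hxg ⟨x, hx⟩⟩)
  -- kill the differences on overlaps
  have hov : ∀ p ∈ t ×ˢ t, ∀ᶠ N in Filter.atTop,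
      (g p.1 * g p.2 * f) ^ N • (g p.2 • a p.1 - g p.1 • a p.2) = 0 := by
    rintro ⟨x, y⟩ -
    obtain ⟨N, hN⟩ := exists_pow_smul_eq_zero (m := g y • a x - g x • a y)
      (d := e x * d + e y * d + d) (f := g x * g y * f) (by omega)
      (SetLike.mul_mem_graded (SetLike.mul_mem_graded (hg x) (hg y)) hf) (fun z => by
        have hz : g x * g y * f ∉ z.1.asHomogeneousIdeal := z.2
        have hfz : f ∉ z.1.asHomogeneousIdeal := fun h => hz (Ideal.mul_mem_left _ _ h)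
        have hgx : g x ∉ z.1.asHomogeneousIdeal :=
          fun h => hz (Ideal.mul_mem_right _ _ (Ideal.mul_mem_right _ _ h))
        have hgy : g y ∉ z.1.asHomogeneousIdeal :=
          fun h => hz (Ideal.mul_mem_right _ _ (Ideal.mul_mem_left _ _ h))
        exact (mk_eq_mk_iff (hg x) (hg y) hgx hgy (ha x) (ha y)).mp
          ((hval x ⟨z.1, hfz⟩ hgx).symm.trans (hval y ⟨z.1, hfz⟩ hgy)))
    filter_upwards [Filter.eventually_ge_atTop N] with N' hN'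
    obtain ⟨c, rfl⟩ := Nat.exists_eq_add_of_le hN'
    rw [pow_add, mul_comm, mul_smul, hN, smul_zero]
  obtain ⟨N, hN⟩ := ((Filter.eventually_all_finset _).mpr hov).exists
  -- the new representatives
  let G : t → A := fun x => (g x.1 * f) ^ N * g x.1
  let B : t → M := fun x => (g x.1 * f) ^ N • a x.1
  let E : t → ℕ := fun x => N * (e x.1 + 1) + e x.1
  have hG : ∀ x, G x ∈ 𝒜 (E x * d) := fun x => by
    have h := SetLike.mul_mem_graded (SetLike.pow_mem_graded N (SetLike.mul_mem_graded (hg x.1) hf)) (hg x.1)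
    rwa [smul_eq_mul, show N * (e x.1 * d + d) + e x.1 * d = E x * d by simp only [E]; ring] at h
  have hB : ∀ x, Deg ℳ ((E x * d : ℕ) + n) (B x) := fun x =>
    ((ha x.1).smul (SetLike.pow_mem_graded N (SetLike.mul_mem_graded (hg x.1) hf))).congr
      (by simp only [E, smul_eq_mul]; push_cast; ring)
  have hGB : ∀ x y : t, G y • B x = G x • B y := fun x y => by
    have h := hN (x.1, y.1) (Finset.mk_mem_product x.2 y.2)
    rw [← sub_eq_zero]
    simp only [G, B]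
    rw [smul_smul, smul_smul]
    calc ((g y.1 * f) ^ N * g y.1 * (g x.1 * f) ^ N) • a x.1 -
          ((g x.1 * f) ^ N * g x.1 * (g y.1 * f) ^ N) • a y.1
        = f ^ N • ((g x.1 * g y.1 * f) ^ N • (g y.1 • a x.1 - g x.1 • a y.1)) := by
          simp only [smul_sub, smul_smul]
          congr 1 <;> congr 1 <;> ring
      _ = 0 := by rw [h, smul_zero]
  obtain ⟨k, hk⟩ := exists_pow_mem_span hd hf G (fun x => ⟨_, hG x⟩) (fun z hz => by
    obtain ⟨x, hx, hzx⟩ := Set.mem_iUnion₂.mp (ht hz)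
    refine Opens.mem_iSup.mpr ⟨⟨x, hx⟩, ?_⟩
    change (g x * f) ^ N * g x ∉ z.asHomogeneousIdeal
    exact fun h => (z.isPrime.mem_or_mem h).elim
      (fun h => (z.isPrime.mem_or_mem (z.isPrime.mem_of_pow_mem N h)).elim hzx hz) hzx)
  -- enlarge `k` to make the degree nonnegative
  set K := k + n.natAbs with hKdef
  have hK : f ^ K ∈ Ideal.span (Set.range G) := by
    rw [hKdef, pow_add]; exact Ideal.mul_mem_right _ _ hk
  obtain ⟨c, hc⟩ := Ideal.mem_span_range_iff_exists_fun.mp hK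
  let c' : t → A := fun x => if E x * d ≤ K * d then (decompose 𝒜 (c x) (K * d - E x * d) : A) else 0
  have hc' : f ^ K = ∑ x, c' x * G x := by
    have hfK : f ^ K ∈ 𝒜 (K * d) := by simpa [smul_eq_mul] using SetLike.pow_mem_graded K hf
    rw [← decompose_of_mem_same 𝒜 hfK]
    conv_lhs => rw [← hc]
    rw [decompose_sum, DFinsupp.finsetSum_apply, AddSubmonoidClass.coe_finsetSum]
    refine Finset.sum_congr rfl fun x _ => ?_
    rw [coe_decompose_mul_of_right_mem 𝒜 _ (hG x)]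
    simp only [c']
    split_ifs <;> simp
  have hm : Deg ℳ ((K * d : ℕ) + n) (∑ x, c' x • B x) := Deg.sum fun x _ => by
    simp only [c']
    split_ifs with hle
    · exact ((hB x).smul (SetLike.coe_mem _)).congr (by push_cast [Nat.cast_sub hle]; ring)
    · simpa using Deg.zero _
  obtain ⟨i, hi, hi'⟩ : ∃ i : ℕ, (∑ x, c' x • B x) ∈ ℳ i ∧ (i : ℤ) = K * d + n := by
    have hnn : (0 : ℤ) ≤ K * d + n := by
      have h1 : K ≤ K * d := Nat.le_mul_of_pos_right K hd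
      have h2 : n.natAbs ≤ K := Nat.le_add_left _ _
      have h3 : ((K : ℤ) * d) = ((K * d : ℕ) : ℤ) := by push_cast; ring
      rw [h3]; omega
    obtain ⟨i, hi⟩ := Int.eq_ofNat_of_zero_le hnn
    rcases hm with ⟨l, hl, hlm⟩ | hz
    · exact ⟨l, hlm, by push_cast at hl; exact hl⟩
    · exact ⟨i, hz ▸ zero_mem _, hi.symm⟩
  refine ⟨K, i, _, hi, hi', fun z hz => ?_⟩
  obtain ⟨x, hx, hzx⟩ := Set.mem_iUnion₂.mp (ht z.2)
  rw [hval x z hzx, LocalizedModule.mk_eq]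
  let y : t := ⟨x, hx⟩
  have hGy : G y • (∑ w, c' w • B w) = f ^ K • B y := by
    rw [Finset.smul_sum, hc', Finset.sum_smul]
    refine Finset.sum_congr rfl fun w _ => ?_
    rw [smul_comm, hGB w y, smul_smul]
  have hu : (g x * f) ^ N ∉ z.1.asHomogeneousIdeal := fun h =>
    (z.1.isPrime.mem_or_mem (z.1.isPrime.mem_of_pow_mem N h)).elim hzx z.2
  refine ⟨⟨_, hu⟩, ?_⟩
  simp only [Submonoid.smul_def]
  rw [smul_smul ((g x * f) ^ N) (g x), hGy, smul_comm]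

end Module

end Groth.Agent.Lib.ProjTilde.Frac
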