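import Groth.Agent.Lib.ProjTilde.Tensor
import Groth.Agent.Lib.Modules.Free

/-!
# `O(n)` is generated by `n`-th powers of degree-one generators
-/

noncomputable section

universe u

open CategoryTheory AlgebraicGeometry TopologicalSpace Opposite

namespace Groth.Agent.Lib.ProjTilde.Generated

open Groth.Agent.Lib.ProjTilde.Frac Groth.Agent.Lib.ProjTilde.Basic Groth.Agent.Lib.TensorMod.Dual

variable {R A : Type u} [CommRing R] [CommRing A] [Algebra R A] {𝒜 : ℕ → Submodule R A} [GradedAlgebra 𝒜]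

/-- The global section `a / 1` of `A(n)~`. -/
def topSec {n : ℕ} {a : A} (ha : a ∈ 𝒜 n) : Γ(GrTilde.tilde 𝒜 𝒜 (n : ℤ), (⊤ : (Proj 𝒜).Opens)) :=
  fracSec (⊤ : Opens (ProjectiveSpectrum.top 𝒜)) (s := (1 : A)) (a := a) SetLike.GradedOne.one_mem
    (Deg.of_mem ha (Or.inl (by simp)))
    (fun x _ => fun h => x.isPrime.ne_top ((Ideal.eq_top_iff_one _).mpr h))

theorem exists_epi_free (s : Finset A) (hs1 : ∀ f ∈ s, f ∈ 𝒜 1)
    (hcov : ∀ x : ProjectiveSpectrum 𝒜, ∃ f ∈ s, f ∉ x.asHomogeneousIdeal) (n : ℕ) :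
    ∃ (k : ℕ) (p : FlatMod.freeMod (Proj 𝒜) k ⟶ Twist.twist 𝒜 (n : ℤ)), Epi p := by
  let e := s.equivFin.symm
  have hmem : ∀ i, (e i).1 ^ n ∈ 𝒜 n := fun i => by
    simpa using SetLike.pow_mem_graded n (hs1 _ (e i).2)
  let q := Modules.Free.freeHom (fun i => topSec (hmem i))
  have hq : Epi q := (Modules.Stalk.epi_iff_stalk_surjective q).mpr fun x => by
    suffices hr : LinearMap.range (Modules.StalkModule.stalkMapₗ q x) = ⊤ from LinearMap.range_eq_top.mp hr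
    refine eq_top_iff.mpr fun v _ => ?_
    obtain ⟨V, hxV, σ, rfl⟩ := TopCat.Presheaf.exists_germ_eq _ v
    obtain ⟨f, hf, hfx⟩ := hcov x
    obtain ⟨i, hi⟩ : ∃ i, (e i).1 = f := ⟨s.equivFin ⟨f, hf⟩, by simp [e]⟩
    subst hi
    have hfn : (e i).1 ^ n ∉ x.asHomogeneousIdeal := fun h => hfx (x.isPrime.mem_of_pow_mem n h)
    let W : (Proj 𝒜).Opens := V ⊓ Proj.basicOpen 𝒜 ((e i).1 ^ n * 1)
    have hxW : x ∈ W := ⟨hxV, fun h => hfn (by simpa only [mul_one] using h)⟩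
    obtain ⟨r, hr⟩ := ofFun_surjective (mulSec (n := (n : ℤ)) (n' := 0) (c := 1) (e := (e i).1 ^ n)
      SetLike.GradedOne.one_mem (hmem i) (by simp) (W := W) (inf_le_right.trans_eq (congrArg (Proj.basicOpen 𝒜) (mul_comm _ _)))
      (GrTilde.res 𝒜 𝒜 (n : ℤ) (homOfLE (inf_le_left : W ≤ V)).op σ))
    have key : rs (GrTilde.tilde 𝒜 𝒜 (n : ℤ)) (inf_le_left : W ≤ V) σ =
        (show Γ(Proj 𝒜, W) from r) • rs (GrTilde.tilde 𝒜 𝒜 (n : ℤ)) (le_top : W ≤ ⊤) (topSec (hmem i)) := by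
      refine sect_ext (U := W) fun y => ?_
      have hy : (e i).1 ^ n ∉ y.1.asHomogeneousIdeal := fun h => y.2.2 (Ideal.mul_mem_right _ _ h)
      have h1y : (1 : A) ∉ y.1.asHomogeneousIdeal := fun h => y.1.isPrime.ne_top ((Ideal.eq_top_iff_one _).mpr h)
      have hr' : (r.1 y).val = unitAt y.1 1 ((e i).1 ^ n) hy • val σ ⟨y.1, y.2.1⟩ := congrArg (fun σ => val σ y) hr
      change val σ ⟨y.1, y.2.1⟩ = (r.1 y).val • unitAt y.1 ((e i).1 ^ n) 1 h1y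
      rw [hr']
      change (val σ ⟨y.1, y.2.1⟩ : Twist.Loc 𝒜 y.1) =
        unitAt y.1 1 _ hy * (val σ ⟨y.1, y.2.1⟩ : Twist.Loc 𝒜 y.1) * unitAt y.1 ((e i).1 ^ n) 1 h1y
      rw [mul_assoc, mul_left_comm, unitAt_mul_unitAt y.1 hy h1y]
      exact (mul_one (_ : Twist.Loc 𝒜 y.1)).symm
    refine ⟨(Proj 𝒜).presheaf.germ W x hxW r •
      (FlatMod.freeMod (Proj 𝒜) _).presheaf.germ ⊤ x trivial (Modules.Free.gen _ i), ?_⟩
    rw [map_smul, Modules.Free.freeHom_stalk_germ]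
    refine Eq.trans ?_ (TopCat.Presheaf.germ_res_apply _ (homOfLE (inf_le_left : W ≤ V)) x hxW σ)
    refine Eq.trans ?_ (congrArg ((GrTilde.tilde 𝒜 𝒜 (n : ℤ)).presheaf.germ W x hxW) key).symm
    rw [Modules.StalkModule.germ_smul]
    exact congrArg _ (TopCat.Presheaf.germ_res_apply _ (homOfLE (le_top : W ≤ ⊤)) x hxW _).symm
  exact ⟨_, q ≫ (twistIsoTilde (n : ℤ)).inv, epi_comp _ _⟩

end Groth.Agent.Lib.ProjTilde.Generated
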