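import Groth.Agent.Lib.ProjTilde.Invertible

/-!
# Where a global section `f / 1` of `O(d)` generates
-/

noncomputable section

universe u

open CategoryTheory AlgebraicGeometry TopologicalSpace Opposite

namespace Groth.Agent.Lib.ProjTilde.GlobalOf

open Groth.Agent.Lib.ProjTilde.Frac Groth.Agent.Lib.ProjTilde.Basic

variable {R A : Type u} [CommRing R] [CommRing A] [Algebra R A] {𝒜 : ℕ → Submodule R A} [GradedAlgebra 𝒜]

/-- `f / 1` generates the degree-`d` fractions at `p` iff `f ∉ p`, when some unit `c / e` of degree `d` exists. -/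
theorem span_globalOf_eq_top_iff {d : ℕ} (f : 𝒜 d) (p : ProjectiveSpectrum 𝒜) {i j : ℕ} {c e : A}
    (hc : c ∈ 𝒜 i) (he : e ∈ 𝒜 j) (hij : (i : ℤ) = j + d) (hcp : c ∉ p.asHomogeneousIdeal)
    (hep : e ∉ p.asHomogeneousIdeal) :
    p ∈ ProjectiveSpectrum.basicOpen 𝒜 (f : A) ↔
      Submodule.span (Twist.A0 𝒜 p) {(Twist.globalOf 𝒜 f).1 ⟨p, trivial⟩} = ⊤ := by
  rw [ProjectiveSpectrum.mem_basicOpen]
  constructor
  · intro hf
    rw [eq_top_iff]
    rintro ⟨q, hq⟩ -
    obtain ⟨k, s, a, hsp, hs, ha, rfl⟩ := exists_frac (ℳ := 𝒜) hq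
    have hamem : a ∈ 𝒜 (k + d) := by
      rcases ha with ⟨l, hl, hla⟩ | rfl
      · obtain rfl : l = k + d := by omega
        exact hla
      · exact zero_mem _
    refine Submodule.mem_span_singleton.mpr ⟨HomogeneousLocalization.mk ⟨k + d, ⟨a, hamem⟩,
      ⟨s * f.1, SetLike.mul_mem_graded hs f.2⟩, fun h => (p.isPrime.mem_or_mem h).elim hsp hf⟩, ?_⟩
    apply Subtype.ext
    refine (Twist.coe_smul_val _ p _ _).trans ?_
    rw [HomogeneousLocalization.val_mk]
    refine (Localization.mk_mul _ _ _ _).trans ?_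
    change (Localization.mk (a * f.1) _ : Twist.Loc 𝒜 p) = Localization.mk a ⟨s, hsp⟩
    rw [Localization.mk_eq_mk_iff, Localization.r_iff_exists]
    refine ⟨1, ?_⟩
    simp only [Submonoid.coe_mul, OneMemClass.coe_one]
    ring
  · intro htop hf
    have hce : (Localization.mk c ⟨e, hep⟩ : Twist.Loc 𝒜 p) ∈ Twist.twistAt 𝒜 (d : ℤ) p :=
      Submodule.subset_span ⟨i, j, ⟨c, hc⟩, ⟨e, he⟩, hep, hij, rfl⟩
    obtain ⟨r, hr⟩ := Submodule.mem_span_singleton.mp (htop ▸ Submodule.mem_top : (⟨_, hce⟩ : Twist.twistAt 𝒜 (d : ℤ) p) ∈ _)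
    obtain ⟨r, rfl⟩ := HomogeneousLocalization.mk_surjective r
    have h2 := (Twist.coe_smul_val _ p _ _).symm.trans (congrArg Subtype.val hr)
    rw [HomogeneousLocalization.val_mk] at h2
    have h3 : (Localization.mk ((r.num : A) * f.1) (⟨r.den, r.den_mem⟩ * 1) : Twist.Loc 𝒜 p) =
        Localization.mk c ⟨e, hep⟩ := (Localization.mk_mul _ _ _ _).symm.trans h2
    rw [Localization.mk_eq_mk_iff, Localization.r_iff_exists] at h3
    obtain ⟨v, hv⟩ := h3
    simp only [Submonoid.coe_mul, OneMemClass.coe_one, mul_one] at hv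
    have hmem : (v : A) * ((r.den : A) * c) ∈ p.asHomogeneousIdeal.toIdeal := by
      rw [← hv]
      exact Ideal.mul_mem_left _ _ (Ideal.mul_mem_left _ _ (Ideal.mul_mem_left _ _ hf))
    exact (p.isPrime.mem_or_mem hmem).elim v.2 fun h => (p.isPrime.mem_or_mem h).elim r.den_mem hcp

end Groth.Agent.Lib.ProjTilde.GlobalOf
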