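import Groth.Agent.Lib.ProjTilde.Invertible

/-!
# When `M~` vanishes
-/

noncomputable section

universe u

open CategoryTheory CategoryTheory.Limits AlgebraicGeometry TopologicalSpace Opposite DirectSum

namespace Groth.Agent.Lib.ProjTilde.Zero

open Groth.Agent.Lib.ProjTilde.Frac Groth.Agent.Lib.ProjTilde.Basic Groth.Agent.Lib.ProjTilde.Invertible

variable {R A : Type u} [CommRing R] [CommRing A] [Algebra R A] {𝒜 : ℕ → Submodule R A} [GradedAlgebra 𝒜]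
variable {M : Type u} [AddCommGroup M] [Module R M] [Module A M] {ℳ : ℕ → Submodule R M}
variable [SetLike.GradedSMul 𝒜 ℳ] [DirectSum.Decomposition ℳ]

theorem isZero_of_forall_sect {X : Scheme.{u}} {N : X.Modules} (h : ∀ (U : X.Opens) (s : Γ(N, U)), s = 0) :
    IsZero N := by
  rw [IsZero.iff_id_eq_zero]
  refine Scheme.Modules.hom_ext _ _ fun U => ?_
  ext s
  exact (h U s).trans (h U _).symm

theorem exists_pos_notMem (x : ProjectiveSpectrum 𝒜) :
    ∃ d, 0 < d ∧ ∃ f ∈ 𝒜 d, f ∉ x.asHomogeneousIdeal := by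
  by_contra h
  push Not at h
  exact x.not_irrelevant_le ((HomogeneousIdeal.irrelevant_le 𝒜).mpr h)

theorem isZero_tilde (n : ℤ) (h : ∀ (z : M) (d : ℕ) (f : A), 0 < d → f ∈ 𝒜 d → ∃ k : ℕ, f ^ k • z = 0) :
    IsZero (GrTilde.tilde 𝒜 ℳ n) :=
  isZero_of_forall_sect fun U σ => sect_ext (U := U) fun x => by
    obtain ⟨j, s, a, hs, ha, hsx, hv⟩ := exists_local_rep (U := U) σ x
    refine (hv x hsx).trans ?_
    obtain ⟨d, hd, f, hf, hfx⟩ := exists_pos_notMem x.1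
    obtain ⟨k, hk⟩ := h a d f hd hf
    obtain ⟨i, hi, -⟩ := ha.exists_mem
    exact (mk_eq_zero_iff hi).mpr ⟨k • d, f ^ k, SetLike.pow_mem_graded k hf,
      fun h' => hfx (x.1.isPrime.mem_of_pow_mem k h'), hk⟩

theorem killed_of_isZero (hgen : (HomogeneousIdeal.irrelevant 𝒜).toIdeal = Ideal.span (𝒜 1 : Set A))
    (h : IsZero (GrTilde.tilde 𝒜 ℳ 0)) {d : ℕ} {f : A} (hd : 0 < d) (hf : f ∈ 𝒜 d) {i : ℕ} {m : M}
    (hm : m ∈ ℳ i) : ∃ N : ℕ, f ^ N • m = 0 := by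
  refine exists_pow_smul_eq_zero hd hf fun x => ?_
  obtain ⟨g, hg, hgx⟩ := exists_degOne_notMem hgen x.1
  have hgi : g ^ i ∉ x.1.asHomogeneousIdeal := fun h' => hgx (x.1.isPrime.mem_of_pow_mem i h')
  let W : (Proj 𝒜).Opens := ProjectiveSpectrum.basicOpen 𝒜 (g ^ i)
  let σ : GrTilde.sect 𝒜 ℳ 0 (op W) := fracSec _ (SetLike.pow_mem_graded i hg)
    (Deg.of_mem hm (Or.inl (by simp))) le_rfl
  have hσ : σ = 0 := by
    have := congr(($((IsZero.iff_id_eq_zero _).mp h)).app W)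
    exact congr($this σ)
  exact (mk_eq_zero_iff hm).mp (congrArg (fun τ => val τ ⟨x.1, hgi⟩) hσ)

theorem killed_of_isZero' (hgen : (HomogeneousIdeal.irrelevant 𝒜).toIdeal = Ideal.span (𝒜 1 : Set A))
    (h : IsZero (GrTilde.tilde 𝒜 ℳ 0)) {d : ℕ} {f : A} (hd : 0 < d) (hf : f ∈ 𝒜 d) (z : M) :
    ∃ N : ℕ, f ^ N • z = 0 := by
  classical
  choose N hN using fun i => killed_of_isZero hgen h hd hf (SetLike.coe_mem (decompose ℳ z i))
  refine ⟨(decompose ℳ z).support.sup N, ?_⟩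
  conv_lhs => arg 2; rw [← sum_support_decompose ℳ z]
  rw [Finset.smul_sum]
  refine Finset.sum_eq_zero fun i hi => ?_
  rw [← Nat.sub_add_cancel (Finset.le_sup (f := N) hi), pow_add, mul_smul]
  simp [hN i]

end Groth.Agent.Lib.ProjTilde.Zero
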